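import Groth.Agent.Lib.AnPts.Affine
import Mathlib.AlgebraicGeometry.Morphisms.Immersion
import Mathlib.AlgebraicGeometry.Morphisms.Affine
import Mathlib.Topology.Separation.Basic

/-!
# Immersions, finite presentations of affine pieces
-/

open AlgebraicGeometry CategoryTheory TopologicalSpace Opposite Topology

noncomputable section

namespace Groth.Agent.Lib.AnPts

open An

/-- Inducing is local on the source when the pieces are preimages of neighbourhoods. -/
lemma isInducing_of_local {A B : Type*} [TopologicalSpace A] [TopologicalSpace B] {F : A → B}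
    (h : ∀ x, ∃ (Z : Type) (_ : TopologicalSpace Z) (j : Z → A), IsOpenEmbedding j ∧
      IsInducing (F ∘ j) ∧ x ∈ Set.range j ∧ Set.range j ∈ Filter.comap F (𝓝 (F x))) :
    IsInducing F := by
  refine isInducing_iff_nhds.2 fun x => ?_
  obtain ⟨Z, _, j, hj, hi, ⟨z, rfl⟩, hr⟩ := h x
  have e : 𝓝 z = Filter.comap j (Filter.comap F (𝓝 (F (j z)))) := by
    rw [hi.nhds_eq_comap z, Filter.comap_comap]; rfl
  rw [← hj.map_nhds_eq z, e, Filter.map_comap_of_mem hr]

variable {X : Scheme.{0}} [X.Over SC] {Y : Scheme.{0}} [Y.Over SC]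

/-! ### Open immersions -/

lemma map_injective_of_mono (g : X ⟶ Y) [g.IsOver SC] [Mono g] :
    Function.Injective (Pts.map g) := fun x y h =>
  Subtype.ext ((cancel_mono g).1 (congrArg Subtype.val h))

lemma range_map_of_isOpenImmersion (g : X ⟶ Y) [g.IsOver SC] [IsOpenImmersion g] :
    Set.range (Pts.map g) = Pts.pt ⁻¹' Set.range g := by
  ext y
  refine ⟨?_, fun hy => ?_⟩
  · rintro ⟨x, rfl⟩
    exact ⟨x.pt, (Pts.pt_map g x).symm⟩
  · have hr : Set.range y.1 ⊆ Set.range g := by
      rintro _ ⟨p, rfl⟩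
      rw [eq_cpt p]
      exact hy
    refine ⟨⟨IsOpenImmersion.lift g y.1 hr, ?_⟩, Subtype.ext (IsOpenImmersion.lift_fac g y.1 hr)⟩
    calc IsOpenImmersion.lift g y.1 hr ≫ X ↘ SC
        = (IsOpenImmersion.lift g y.1 hr ≫ g) ≫ Y ↘ SC := by rw [Category.assoc, comp_over g]
      _ = 𝟙 SC := by rw [IsOpenImmersion.lift_fac]; exact y.2

lemma isOpenEmbedding_map (g : X ⟶ Y) [g.IsOver SC] [IsOpenImmersion g] :
    IsOpenEmbedding (Pts.map g) := by
  refine ⟨⟨⟨?_⟩, map_injective_of_mono g⟩, ?_⟩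
  · refine le_antisymm (continuous_iff_le_induced.1 (Pts.continuous_map g)) ?_
    refine le_generateFrom ?_
    rintro _ ⟨U, f, V, hV, rfl⟩
    refine isOpen_induced_iff.2 ⟨Pts.basicSet (g ''ᵁ U) ((g.appIso U).inv f) V,
      Pts.isOpen_basicSet _ _ hV, ?_⟩
    have key : ∀ (x : Pts X) (h : x.pt ∈ U) (h' : (Pts.map g x).pt ∈ g ''ᵁ U),
        (Pts.map g x).ev (g ''ᵁ U) h' ((g.appIso U).inv f) = x.ev U h f := by
      intro x h h'
      rw [Pts.ev_map, ← ev_map_res x (g.preimage_image_eq U).ge h]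
      congr 1
      have e : g.app (g ''ᵁ U) ≫ X.presheaf.map (homOfLE (g.preimage_image_eq U).ge).op =
          (g.appIso U).hom := (g.appIso_hom' U).symm
      have e' : ((g.appIso U).inv ≫ g.app (g ''ᵁ U) ≫
          X.presheaf.map (homOfLE (g.preimage_image_eq U).ge).op) f = f := by
        rw [e, Iso.inv_hom_id]; rfl
      exact e'
    ext x
    constructor
    · rintro ⟨h, hx⟩
      have hx' : x.pt ∈ U := by
        rw [← g.preimage_image_eq U]; rw [Pts.pt_map] at h; exact h
      exact ⟨hx', by rwa [key x hx' h] at hx⟩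
    · rintro ⟨h, hx⟩
      have h' : (Pts.map g x).pt ∈ g ''ᵁ U := by
        rw [Pts.pt_map]; exact ⟨x.pt, h, rfl⟩
      exact ⟨h', by rwa [key x h h']⟩
  · rw [range_map_of_isOpenImmersion g]
    exact (g.isOpenEmbedding.isOpen_range).preimage Pts.continuous_pt

/-- The inclusion of the ℂ-points of an open subscheme. -/
lemma isOpenEmbedding_map_ι (U : X.Opens) : IsOpenEmbedding (Pts.map U.ι) :=
  isOpenEmbedding_map U.ι

lemma range_map_ι (U : X.Opens) : Set.range (Pts.map U.ι) = Pts.pt ⁻¹' (U : Set X) := by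
  rw [range_map_of_isOpenImmersion, U.range_ι]

lemma exists_map_ι_eq {U : X.Opens} {x : Pts X} (h : x.pt ∈ U) :
    ∃ x' : Pts U.toScheme, Pts.map U.ι x' = x := by
  have : x ∈ Set.range (Pts.map U.ι) := by rw [range_map_ι]; exact h
  exact this

/-- Inducing can be checked over an open cover of the target. -/
lemma isInducing_map_of_cover (g : X ⟶ Y) [g.IsOver SC]
    (h : ∀ y : Pts Y, ∃ W : Y.Opens, y.pt ∈ W ∧ IsInducing (Pts.map ((g ⁻¹ᵁ W).ι ≫ g))) :
    IsInducing (Pts.map g) := by
  refine isInducing_of_local fun x => ?_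
  obtain ⟨W, hW, hi⟩ := h (Pts.map g x)
  have hr : Set.range (Pts.map (g ⁻¹ᵁ W).ι) = Pts.map g ⁻¹' (Pts.pt ⁻¹' (W : Set Y)) := by
    rw [range_map_ι]
    ext z
    show g z.pt ∈ W ↔ (Pts.map g z).pt ∈ W
    rw [Pts.pt_map]
  refine ⟨_, inferInstance, Pts.map (g ⁻¹ᵁ W).ι, isOpenEmbedding_map_ι _, ?_, ?_, ?_⟩
  · convert hi using 1
    funext z
    exact (Pts.map_comp _ _ z).symm
  · rw [hr]; exact hW
  · rw [hr]
    exact Filter.preimage_mem_comap ((Pts.isOpen_preimage_pt W).mem_nhds hW)

/-! ### Closed immersions -/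

lemma isInducing_map_of_affine_of_surjective [IsAffine X] (g : X ⟶ Y) [g.IsOver SC]
    (hg : Function.Surjective g.appTop) : IsInducing (Pts.map g) := by
  refine IsInducing.of_comp (Pts.continuous_map g) (continuous_pi_evTop (X := Y) id) ⟨?_⟩
  refine le_antisymm (continuous_iff_le_induced.1
    ((continuous_pi_evTop (X := Y) id).comp (Pts.continuous_map g))) ?_
  conv_rhs => rw [topology_eq_induced_evTop X]
  let t : TopologicalSpace (Pts X) := TopologicalSpace.induced
    ((fun (y : Pts Y) (h : Γ(Y, ⊤)) => y.evTop h) ∘ Pts.map g) inferInstance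
  refine continuous_iff_le_induced.1 (@continuous_pi _ _ _ t _ _ fun f => ?_)
  obtain ⟨h, rfl⟩ := hg f
  have : (fun x : Pts X => x.evTop (g.appTop h)) =
      (fun v => v h) ∘ ((fun (y : Pts Y) (h : Γ(Y, ⊤)) => y.evTop h) ∘ Pts.map g) := by
    funext x; exact (evTop_map g x h).symm
  rw [this]
  exact (continuous_apply h).comp continuous_induced_dom

variable [LocallyOfFiniteType (Y ↘ SC)]

lemma range_map_of_isClosedImmersion (g : X ⟶ Y) [g.IsOver SC] [IsClosedImmersion g] :
    Set.range (Pts.map g) = Pts.pt ⁻¹' Set.range g := by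
  have : LocallyOfFiniteType (X ↘ SC) := by rw [← comp_over g (Y := Y)]; infer_instance
  ext y
  refine ⟨?_, ?_⟩
  · rintro ⟨x, rfl⟩
    exact ⟨x.pt, (Pts.pt_map g x).symm⟩
  · rintro ⟨w, hw⟩
    have hwc : IsClosed ({w} : Set ↥X) := by
      have := (isClosed_pt y).preimage g.continuous
      rwa [← hw, ← Set.image_singleton, g.isClosedEmbedding.injective.preimage_image] at this
    obtain ⟨x, rfl⟩ := exists_pt_eq hwc
    exact ⟨x, pt_injective (by rw [Pts.pt_map, hw])⟩

lemma isClosedEmbedding_map (g : X ⟶ Y) [g.IsOver SC] [IsClosedImmersion g] :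
    IsClosedEmbedding (Pts.map g) := by
  refine ⟨⟨?_, map_injective_of_mono g⟩, ?_⟩
  · refine isInducing_map_of_cover g fun y => ?_
    obtain ⟨W, hW, hyW, -⟩ :=
      exists_isAffineOpen_mem_and_subset (U := ⊤) (x := y.pt) (Opens.mem_top _)
    refine ⟨W, hyW, ?_⟩
    have := hW.preimage g
    have : IsAffine (g ⁻¹ᵁ W).toScheme := this
    have : IsAffine W.toScheme := hW
    let g' : (g ⁻¹ᵁ W).toScheme ⟶ W.toScheme := g ∣_ W
    have hover : g'.IsOver SC := ⟨by
      show g' ≫ W.ι ≫ Y ↘ SC = (g ⁻¹ᵁ W).ι ≫ X ↘ SC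
      rw [← Category.assoc, morphismRestrict_ι, Category.assoc, comp_over g]⟩
    have hg' : IsClosedImmersion g' :=
      IsZariskiLocalAtTarget.restrict (P := @IsClosedImmersion) ‹_› W
    have hs : Function.Surjective g'.appTop :=
      (IsClosedImmersion.isAffine_surjective_of_isAffine g').2
    have h1 := (isOpenEmbedding_map_ι W).isInducing.comp
      (isInducing_map_of_affine_of_surjective g' hs)
    convert h1 using 1
    funext z
    exact Subtype.ext (by simp only [Function.comp_apply, Pts.map_val, Category.assoc]; simp [g'])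
  · rw [range_map_of_isClosedImmersion g]
    exact (g.isClosedEmbedding.isClosed_range).preimage Pts.continuous_pt

lemma range_map_of_isImmersion (g : X ⟶ Y) [g.IsOver SC] [IsImmersion g] :
    IsEmbedding (Pts.map g) ∧ Set.range (Pts.map g) = Pts.pt ⁻¹' Set.range g := by
  have : IsClosedImmersion g.liftCoborder := inferInstance
  have : g.liftCoborder.IsOver SC := ⟨by
    show g.liftCoborder ≫ g.coborderRange.ι ≫ Y ↘ SC = X ↘ SC
    rw [← Category.assoc, g.liftCoborder_ι, comp_over g]⟩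
  have : LocallyOfFiniteType (g.coborderRange.toScheme ↘ SC) :=
    show LocallyOfFiniteType (g.coborderRange.ι ≫ Y ↘ SC) from inferInstance
  have hc : Pts.map g = Pts.map g.coborderRange.ι ∘ Pts.map g.liftCoborder := by
    funext z
    exact Subtype.ext (by simp)
  have hpre : Set.range g = g.coborderRange.ι '' Set.range g.liftCoborder := by
    rw [← Set.range_comp]
    congr 1
    funext z
    exact (congrArg (fun φ : X ⟶ Y => φ z) g.liftCoborder_ι.symm).trans (Scheme.Hom.comp_apply _ _ z)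
  refine ⟨hc ▸ (isOpenEmbedding_map_ι _).isEmbedding.comp (isClosedEmbedding_map _).isEmbedding, ?_⟩
  rw [hc, Set.range_comp, range_map_of_isClosedImmersion, hpre]
  ext y
  constructor
  · rintro ⟨z, hz, rfl⟩
    exact ⟨z.pt, hz, (Pts.pt_map _ z).symm⟩
  · rintro ⟨w, hw, hwy⟩
    obtain ⟨z, rfl⟩ := exists_map_ι_eq (U := g.coborderRange) (x := y) (by
      rw [← hwy]; exact w.2)
    rw [Pts.pt_map] at hwy
    exact ⟨z, by rwa [Set.mem_preimage, ← g.coborderRange.ι.isOpenEmbedding.injective hwy], rfl⟩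

end Groth.Agent.Lib.AnPts
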