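import Groth.Agent.Lib.AnPts.Core
import Groth.Agent.Lib.AnPts.Immersion
import Mathlib.AlgebraicGeometry.Noetherian
import Mathlib.AlgebraicGeometry.Morphisms.FinitePresentation

/-!
# Constructible sets and the complex topology
-/

open AlgebraicGeometry CategoryTheory TopologicalSpace Opposite Topology

noncomputable section

namespace Groth.Agent.Lib.AnPts

open An

/-- A constructible set or its complement contains a neighbourhood, within the closure, of any point. -/
lemma exists_open_of_isConstructible {α : Type*} [TopologicalSpace α] {s : Set α}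
    (hs : IsConstructible s) (η : α) :
    (η ∈ s → ∃ O, IsOpen O ∧ η ∈ O ∧ O ∩ closure {η} ⊆ s) ∧
      (η ∉ s → ∃ O, IsOpen O ∧ η ∈ O ∧ O ∩ closure {η} ⊆ sᶜ) := by
  induction hs using IsConstructible.empty_union_induction with
  | open_retrocompact U hU _ =>
    refine ⟨fun h => ⟨U, hU, h, Set.inter_subset_left⟩, fun h => ⟨Set.univ, isOpen_univ, Set.mem_univ η, ?_⟩⟩
    rintro z ⟨-, hz⟩ hzU
    exact h ((specializes_iff_mem_closure.2 hz).mem_open hU hzU)
  | union s _ t _ ihs iht =>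
    refine ⟨fun h => ?_, fun h => ?_⟩
    · rcases h with h | h
      · obtain ⟨O, h1, h2, h3⟩ := ihs.1 h
        exact ⟨O, h1, h2, h3.trans Set.subset_union_left⟩
      · obtain ⟨O, h1, h2, h3⟩ := iht.1 h
        exact ⟨O, h1, h2, h3.trans Set.subset_union_right⟩
    · obtain ⟨O, h1, h2, h3⟩ := ihs.2 fun e => h (Or.inl e)
      obtain ⟨O', h1', h2', h3'⟩ := iht.2 fun e => h (Or.inr e)
      refine ⟨O ∩ O', h1.inter h1', ⟨h2, h2'⟩, ?_⟩
      rintro z ⟨⟨hz, hz'⟩, hc⟩ (e | e)
      · exact h3 ⟨hz, hc⟩ e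
      · exact h3' ⟨hz', hc⟩ e
  | compl s _ ih =>
    refine ⟨ih.2, fun h => ?_⟩
    obtain ⟨O, h1, h2, h3⟩ := ih.1 (not_not.1 h)
    exact ⟨O, h1, h2, by rwa [compl_compl]⟩

lemma exists_open_of_isLocallyConstructible {α : Type*} [TopologicalSpace α] {s : Set α}
    (hs : IsLocallyConstructible s) {η : α} (hη : η ∈ s) :
    ∃ O, IsOpen O ∧ η ∈ O ∧ O ∩ closure {η} ⊆ s := by
  obtain ⟨U, hUn, hU, hc⟩ := hs η
  obtain ⟨O, hO, hηO, hsub⟩ := (exists_open_of_isConstructible hc ⟨η, mem_of_mem_nhds hUn⟩).1 hη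
  refine ⟨Subtype.val '' O, hU.isOpenMap_subtype_val O hO, ⟨_, hηO, rfl⟩, ?_⟩
  rintro _ ⟨⟨w, hw, rfl⟩, hwc⟩
  refine hsub ⟨hw, ?_⟩
  rw [closure_subtype, Set.image_singleton]
  exact hwc

/-- A point in the closure of a constructible set of a noetherian space generizes into the set. -/
lemma exists_specializes_of_mem_closure {α : Type*} [TopologicalSpace α] [NoetherianSpace α]
    [QuasiSober α] {s : Set α} (hs : IsLocallyConstructible s) {x : α} (hx : x ∈ closure s) :
    ∃ η ∈ s, η ⤳ x := by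
  obtain ⟨S, hSf, hS, hSu⟩ := NoetherianSpace.exists_finite_set_isClosed_irreducible
    (isClosed_closure (s := s))
  obtain ⟨hSi, hSu⟩ : (∀ t ∈ S, IsIrreducible t) ∧ closure s = ⋃₀ S := ⟨hSu.1, hSu.2⟩
  obtain ⟨Z₁, hZ₁, hxZ₁⟩ : ∃ Z ∈ S, x ∈ Z := by rw [hSu] at hx; exact hx
  obtain ⟨Z, hZ₁Z, hZS, hZmax⟩ := hSf.exists_le_maximal hZ₁
  obtain ⟨η, hη⟩ := QuasiSober.sober (hSi Z hZS) (hS Z hZS)
  refine ⟨η, ?_, hη.specializes (hZ₁Z hxZ₁)⟩
  by_contra hηs
  obtain ⟨U, hUn, hU, hc⟩ := hs η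
  obtain ⟨O, hO, hηO, hsub⟩ := (exists_open_of_isConstructible hc ⟨η, mem_of_mem_nhds hUn⟩).2 hηs
  let O' : Set α := Subtype.val '' O
  have hO' : IsOpen O' := hU.isOpenMap_subtype_val O hO
  have hdisj : ∀ z ∈ O', z ∈ Z → z ∉ s := by
    rintro _ ⟨w, hw, rfl⟩ hwZ
    refine hsub ⟨hw, ?_⟩
    rw [closure_subtype, Set.image_singleton, hη]
    exact hwZ
  let R : Set α := ⋃₀ (S \ {Z})
  have hR : IsClosed R := by
    simp only [R, Set.sUnion_eq_biUnion]
    exact (hSf.subset Set.sdiff_subset).isClosed_biUnion fun t ht => hS t ht.1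
  have hsub' : s ⊆ O'ᶜ ∪ R := fun z hz => by
    by_cases hzO : z ∈ O'
    · refine Or.inr ?_
      obtain ⟨t, ht, hzt⟩ : z ∈ ⋃₀ S := hSu ▸ subset_closure hz
      refine ⟨t, ⟨ht, fun e => ?_⟩, hzt⟩
      rw [Set.mem_singleton_iff] at e
      exact hdisj z hzO (e ▸ hzt) hz
    · exact Or.inl hzO
  have hηc : η ∈ closure s := hSu ▸ ⟨Z, hZS, hη.mem⟩
  rcases closure_minimal hsub' (hO'.isClosed_compl.union hR) hηc with h | ⟨t, ⟨ht, htZ⟩, hηt⟩
  · exact h ⟨_, hηO, rfl⟩
  · refine htZ (le_antisymm (hZmax ht ?_) ?_)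
    · exact hη ▸ closure_minimal (Set.singleton_subset_iff.2 hηt) (hS t ht)
    · exact hη ▸ closure_minimal (Set.singleton_subset_iff.2 hηt) (hS t ht)

variable {X : Scheme.{0}} [X.Over SC] [LocallyOfFiniteType (X ↘ SC)]

/-- A nonempty constructible set has a ℂ-point. -/
lemma exists_pt_mem_of_isLocallyConstructible {T : Set ↥X} (hT : IsLocallyConstructible T)
    (hne : T.Nonempty) : ∃ x : Pts X, x.pt ∈ T := by
  obtain ⟨η, hη⟩ := hne
  obtain ⟨O, hO, hηO, hsub⟩ := exists_open_of_isLocallyConstructible hT hη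
  obtain ⟨x, hx⟩ := exists_pt_mem_locallyClosed
    (hO.isLocallyClosed.inter isClosed_closure.isLocallyClosed)
    ⟨η, hηO, subset_closure (Set.mem_singleton η)⟩
  exact ⟨x, hsub hx⟩

lemma finiteType_strHom (X : Scheme.{0}) [X.Over SC] [IsAffine X]
    [LocallyOfFiniteType (X ↘ SC)] : (strHom X).FiniteType := by
  refine RingHom.FiniteType.comp ?_ (RingHom.FiniteType.of_surjective _
    (Scheme.ΓSpecIso (CommRingCat.of ℂ)).commRingCatIsoToRingEquiv.symm.surjective)
  exact (HasRingHomProperty.iff_of_isAffine (P := @LocallyOfFiniteType)).1 ‹_›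

lemma exists_generators (X : Scheme.{0}) [X.Over SC] [IsAffine X]
    [LocallyOfFiniteType (X ↘ SC)] : ∃ (n : ℕ) (s : Fin n → Γ(X, ⊤)),
      Function.Surjective (MvPolynomial.eval₂Hom (strHom X) s) := by
  let := (strHom X).toAlgebra
  have : Algebra.FiniteType ℂ Γ(X, ⊤) := finiteType_strHom X
  obtain ⟨n, π, hπ⟩ := Algebra.FiniteType.iff_quotient_mvPolynomial''.1 this
  refine ⟨n, fun i => π (MvPolynomial.X i), ?_⟩
  have : MvPolynomial.eval₂Hom (strHom X) (fun i => π (MvPolynomial.X i)) = π.toRingHom :=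
    MvPolynomial.ringHom_ext (fun c => (MvPolynomial.eval₂Hom_C _ _ c).trans (π.commutes c).symm)
      (fun i => by simp)
  rw [this]
  exact hπ

lemma isNoetherianRing_top (X : Scheme.{0}) [X.Over SC] [IsAffine X]
    [LocallyOfFiniteType (X ↘ SC)] : IsNoetherianRing Γ(X, ⊤) := by
  obtain ⟨n, s, hs⟩ := exists_generators X
  exact isNoetherianRing_of_surjective _ _ _ hs

lemma noetherianSpace_of_isAffine (X : Scheme.{0}) [X.Over SC] [IsAffine X]
    [LocallyOfFiniteType (X ↘ SC)] : NoetherianSpace ↥X := by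
  have : IsLocallyNoetherian X := LocallyOfFiniteType.isLocallyNoetherian (X ↘ SC)
  have : IsNoetherian X := {}
  infer_instance

/-- The ℂ-points of a specialization lie in the closure of the ℂ-points near the generization. -/
lemma mem_closure_of_specializes [IsAffine X] {η : X} {x : Pts X} (hη : η ⤳ x.pt)
    {O : Set ↥X} (hO : IsOpen O) (hηO : η ∈ O) :
    x ∈ closure (Pts.pt ⁻¹' (O ∩ closure {η})) := by
  let := (strHom X).toAlgebra
  have hft : Algebra.FiniteType ℂ Γ(X, ⊤) := finiteType_strHom X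
  obtain ⟨g, hgO, hηg⟩ := (isAffineOpen_top X).exists_basicOpen_le (V := ⟨O, hO⟩) ⟨η, hηO⟩
    (Opens.mem_top η)
  let p : Ideal Γ(X, ⊤) := ((isAffineOpen_top X).primeIdealOf ⟨η, Opens.mem_top η⟩).asIdeal
  have hp : ∀ b : Γ(X, ⊤), b ∈ p ↔ η ∉ X.basicOpen b := by
    intro b
    have h1 := (isAffineOpen_top X).fromSpec_primeIdealOf ⟨η, Opens.mem_top η⟩
    have h2 := (isAffineOpen_top X).fromSpec_preimage_basicOpen b
    rw [show η = (isAffineOpen_top X).fromSpec ((isAffineOpen_top X).primeIdealOf ⟨η, Opens.mem_top η⟩)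
      from h1.symm]
    show _ ↔ (isAffineOpen_top X).primeIdealOf ⟨η, _⟩ ∉ (isAffineOpen_top X).fromSpec ⁻¹ᵁ X.basicOpen b
    rw [h2]
    exact not_not.symm.trans (not_congr (PrimeSpectrum.mem_basicOpen _ _).symm)
  let φ₁ : Γ(X, ⊤) →ₐ[ℂ] ℂ := { evTopHom x with commutes' := fun c => evTop_strHom x c }
  have hker : ∀ b ∈ p, φ₁ b = 0 := fun b hb => by
    by_contra h
    exact (hp b).1 hb (hη.mem_open (X.basicOpen b).2
      ((pt_mem_basicOpen_iff x (Opens.mem_top _) b).2 h))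
  let φ₀ : (Γ(X, ⊤) ⧸ p) →ₐ[ℂ] ℂ := Ideal.Quotient.liftₐ p φ₁ hker
  have hg : Ideal.Quotient.mk p g ≠ 0 := fun h =>
    (hp g).1 (Ideal.Quotient.eq_zero_iff_mem.1 h) hηg
  have hcore := mem_closure_ne_zero hg φ₀
  let E : Pts X → (Γ(X, ⊤) → ℂ) := fun y b => y.evTop b
  have hE : IsInducing E := ⟨topology_eq_induced_evTop X⟩
  rw [hE.closure_eq_preimage_closure_image, Set.mem_preimage]
  let c : ((Γ(X, ⊤) ⧸ p) → ℂ) → (Γ(X, ⊤) → ℂ) := fun v b => v (Ideal.Quotient.mk p b)
  have hc : Continuous c := continuous_pi fun b => continuous_apply _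
  have h1 := image_closure_subset_closure_image hc (Set.mem_image_of_mem c hcore)
  refine closure_mono ?_ h1
  rintro _ ⟨_, ⟨φ, hφg, rfl⟩, rfl⟩
  obtain ⟨y, hy⟩ := exists_pts_of_ringHom ((φ : Γ(X, ⊤) ⧸ p →+* ℂ).comp (Ideal.Quotient.mk p))
    (fun a => φ.commutes a)
  refine ⟨y, ⟨hgO ((pt_mem_basicOpen_iff y (Opens.mem_top _) g).2 ?_), ?_⟩, funext hy⟩
  · show y.evTop g ≠ 0
    rw [hy]
    exact hφg
  · refine specializes_iff_mem_closure.1 (specializes_iff_forall_open.2 fun U hU hyU => ?_)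
    obtain ⟨b, hbU, hyb⟩ := (isAffineOpen_top X).exists_basicOpen_le (V := ⟨U, hU⟩) ⟨y.pt, hyU⟩
      (Opens.mem_top _)
    refine hbU (by_contra fun hηb => ?_)
    have := (pt_mem_basicOpen_iff y (Opens.mem_top _) b).1 hyb
    refine this ?_
    show y.evTop b = 0
    rw [hy]
    show φ (Ideal.Quotient.mk p b) = 0
    rw [Ideal.Quotient.eq_zero_iff_mem.2 ((hp b).2 hηb), map_zero]

/-- The ℂ-points of the closure are the closure of the ℂ-points. -/
theorem preimage_closure_pt {T : Set ↥X} (hT : IsLocallyConstructible T) :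
    (Pts.pt ⁻¹' closure T : Set (Pts X)) = closure (Pts.pt ⁻¹' T) := by
  refine Set.Subset.antisymm (fun x hx => ?_) (Pts.continuous_pt.closure_preimage_subset T)
  obtain ⟨W, hW, hxW, -⟩ :=
    exists_isAffineOpen_mem_and_subset (U := ⊤) (x := x.pt) (Opens.mem_top _)
  have : IsAffine W.toScheme := hW
  have : LocallyOfFiniteType (W.toScheme ↘ SC) :=
    show LocallyOfFiniteType (W.ι ≫ X ↘ SC) from inferInstance
  have := noetherianSpace_of_isAffine W.toScheme
  obtain ⟨x', rfl⟩ := exists_map_ι_eq hxW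
  have hT' : IsLocallyConstructible (W.ι ⁻¹' T) :=
    hT.preimage_of_isOpenEmbedding W.ι.isOpenEmbedding
  have hxc : x'.pt ∈ closure (W.ι ⁻¹' T) := by
    rw [← W.ι.isOpenEmbedding.isOpenMap.preimage_closure_eq_closure_preimage W.ι.continuous]
    rwa [Set.mem_preimage, Pts.pt_map] at hx
  obtain ⟨η, hηT, hη⟩ := exists_specializes_of_mem_closure hT' hxc
  obtain ⟨O, hO, hηO, hsub⟩ := exists_open_of_isLocallyConstructible hT' hηT
  have h1 := image_closure_subset_closure_image (Pts.continuous_map W.ι)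
    (Set.mem_image_of_mem _ (mem_closure_of_specializes hη hO hηO))
  refine closure_mono ?_ h1
  rintro _ ⟨z, hz, rfl⟩
  show (Pts.map W.ι z).pt ∈ T
  rw [Pts.pt_map]
  exact hsub hz

/-- A constructible set is determined by its ℂ-points. -/
lemma subset_of_pt_preimage_subset {T S : Set ↥X} (hT : IsLocallyConstructible T)
    (hS : IsLocallyConstructible Sᶜ) (h : Pts.pt ⁻¹' T ⊆ (Pts.pt ⁻¹' S : Set (Pts X))) : T ⊆ S := by
  intro z hz
  by_contra hzS
  obtain ⟨x, hxT, hxS⟩ := exists_pt_mem_of_isLocallyConstructible (hT.inter hS) ⟨z, hz, hzS⟩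
  exact hxS (h hxT)

/-- Locally closed sets of a locally noetherian scheme are locally constructible. -/
lemma isLocallyConstructible_of_isOpen {U : Set ↥X} (hU : IsOpen U) : IsLocallyConstructible U := by
  intro z
  obtain ⟨W, hW, hzW, -⟩ :=
    exists_isAffineOpen_mem_and_subset (U := ⊤) (x := z) (Opens.mem_top _)
  have : IsAffine W.toScheme := hW
  have : LocallyOfFiniteType (W.toScheme ↘ SC) :=
    show LocallyOfFiniteType (W.ι ≫ X ↘ SC) from inferInstance
  have : NoetherianSpace ↥(W : Set ↥X) := noetherianSpace_of_isAffine W.toScheme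
  refine ⟨W, W.2.mem_nhds hzW, W.2, ?_⟩
  refine IsRetrocompact.isConstructible (hU.preimage continuous_subtype_val) ?_
  exact fun t _ _ => NoetherianSpace.isCompact _

omit [X.Over SC] [LocallyOfFiniteType (X ↘ SC)] in
lemma isLocallyConstructible_compl {T : Set ↥X} (hT : IsLocallyConstructible T) :
    IsLocallyConstructible Tᶜ := fun z => by
  obtain ⟨U, h1, h2, h3⟩ := hT z
  exact ⟨U, h1, h2, h3.compl⟩

lemma isLocallyConstructible_of_isClosed {T : Set ↥X} (hT : IsClosed T) :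
    IsLocallyConstructible T := by
  simpa using isLocallyConstructible_compl (isLocallyConstructible_of_isOpen hT.isOpen_compl)

lemma isLocallyConstructible_of_isLocallyClosed {T : Set ↥X} (hT : IsLocallyClosed T) :
    IsLocallyConstructible T := by
  obtain ⟨U, C, hU, hC, rfl⟩ := hT
  exact (isLocallyConstructible_of_isOpen hU).inter (isLocallyConstructible_of_isClosed hC)

end Groth.Agent.Lib.AnPts
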