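import Groth.Prelude.Def_AnPts
import Mathlib.AlgebraicGeometry.AlgClosed.Basic
import Mathlib.Analysis.Complex.Polynomial.Basic
import Mathlib.AlgebraicGeometry.Morphisms.FiniteType

/-!
# Elementary facts about ℂ-points

Evaluation is a ring homomorphism, compatibility with restriction, the ℂ-points versus closed
points dictionary.
-/

open AlgebraicGeometry CategoryTheory TopologicalSpace Opposite

noncomputable section

namespace Groth.Agent.Lib.AnPts

open An

variable {X : Scheme.{0}} [X.Over SC]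

lemma cpt_eq_closedPoint : (An.cpt : ↥SC) = IsLocalRing.closedPoint ℂ :=
  Subsingleton.elim (α := PrimeSpectrum ℂ) _ _

/-- Evaluation at a point as a ring homomorphism. -/
def evHom (x : Pts X) (U : X.Opens) (h : x.pt ∈ U) : Γ(X, U) →+* ℂ :=
  (Scheme.ΓSpecIso (CommRingCat.of ℂ)).hom.hom.comp
    (x.1.appLE U ⊤ (Pts.top_le_preimage x h)).hom

lemma evHom_apply (x : Pts X) (U : X.Opens) (h : x.pt ∈ U) (f : Γ(X, U)) :
    evHom x U h f = x.ev U h f := rfl

@[simp] lemma ev_add (x : Pts X) (U : X.Opens) (h : x.pt ∈ U) (f g : Γ(X, U)) :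
    x.ev U h (f + g) = x.ev U h f + x.ev U h g := map_add (evHom x U h) f g

@[simp] lemma ev_mul (x : Pts X) (U : X.Opens) (h : x.pt ∈ U) (f g : Γ(X, U)) :
    x.ev U h (f * g) = x.ev U h f * x.ev U h g := map_mul (evHom x U h) f g

@[simp] lemma ev_pow (x : Pts X) (U : X.Opens) (h : x.pt ∈ U) (f : Γ(X, U)) (n : ℕ) :
    x.ev U h (f ^ n) = x.ev U h f ^ n := map_pow (evHom x U h) f n

@[simp] lemma ev_one (x : Pts X) (U : X.Opens) (h : x.pt ∈ U) :
    x.ev U h (1 : Γ(X, U)) = 1 := map_one (evHom x U h)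

@[simp] lemma ev_zero (x : Pts X) (U : X.Opens) (h : x.pt ∈ U) :
    x.ev U h (0 : Γ(X, U)) = 0 := map_zero (evHom x U h)

/-- Compatibility of evaluation with restriction. -/
lemma ev_map_res (x : Pts X) {U V : X.Opens} (i : V ≤ U) (h : x.pt ∈ V) (f : Γ(X, U)) :
    x.ev V h (X.presheaf.map (homOfLE i).op f) = x.ev U (i h) f := by
  unfold Pts.ev
  rw [← CategoryTheory.comp_apply (X.presheaf.map _) (x.1.appLE V ⊤ _), Scheme.Hom.map_appLE]

/-- Evaluation of global sections as a ring homomorphism. -/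
def evTopHom (x : Pts X) : Γ(X, ⊤) →+* ℂ := evHom x ⊤ (Opens.mem_top _)

lemma evTopHom_apply (x : Pts X) (f : Γ(X, ⊤)) : evTopHom x f = x.evTop f := rfl

lemma evTop_eq_appTop (x : Pts X) (f : Γ(X, ⊤)) :
    x.evTop f = (Scheme.ΓSpecIso (CommRingCat.of ℂ)).hom (x.1.appTop f) := by
  show x.ev ⊤ _ f = _
  unfold Pts.ev
  have e : homOfLE (Pts.top_le_preimage x (Opens.mem_top x.pt)) = 𝟙 _ := rfl
  simp only [Scheme.Hom.appLE, e]
  erw [SC.presheaf.map_id]
  rfl

lemma ev_res_top (x : Pts X) (U : X.Opens) (h : x.pt ∈ U) (f : Γ(X, ⊤)) :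
    x.ev U h (X.presheaf.map (homOfLE le_top).op f) = x.evTop f :=
  ev_map_res x le_top h f

@[simp] lemma evTop_strHom (x : Pts X) (c : ℂ) : x.evTop (strHom X c) = c := by
  rw [evTop_eq_appTop]
  have := congrArg (fun φ => φ.appTop ((Scheme.ΓSpecIso (CommRingCat.of ℂ)).inv c)) x.2
  simp only [Scheme.Hom.comp_appTop, CategoryTheory.comp_apply] at this
  change (Scheme.ΓSpecIso (CommRingCat.of ℂ)).hom
    (x.1.appTop ((X ↘ SC).appTop ((Scheme.ΓSpecIso (CommRingCat.of ℂ)).inv c))) = c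
  rw [this]
  simp

/-- The point lies in the basic open iff the value is nonzero. -/
lemma pt_mem_basicOpen_iff (x : Pts X) {U : X.Opens} (h : x.pt ∈ U) (f : Γ(X, U)) :
    x.pt ∈ X.basicOpen f ↔ x.ev U h f ≠ 0 := by
  have hiff : x.pt ∈ X.basicOpen f ↔ An.cpt ∈ x.1 ⁻¹ᵁ X.basicOpen f := Iff.rfl
  have h2 : x.1.appLE U ⊤ (Pts.top_le_preimage x h) f = SC.presheaf.map (homOfLE (Pts.top_le_preimage x h)).op (x.1.app U f) := rfl
  rw [hiff, Scheme.preimage_basicOpen]
  have h3 : An.cpt ∈ SC.basicOpen (x.1.appLE U ⊤ (Pts.top_le_preimage x h) f) ↔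
      An.cpt ∈ SC.basicOpen (x.1.app U f) := by
    rw [h2, Scheme.basicOpen_res]
    constructor
    · exact fun hh => hh.2
    · exact fun hh => ⟨Opens.mem_top _, hh⟩
  rw [← h3]
  unfold Pts.ev
  generalize x.1.appLE U ⊤ (Pts.top_le_preimage x h) f = a
  have : a = (Scheme.ΓSpecIso (CommRingCat.of ℂ)).inv ((Scheme.ΓSpecIso (CommRingCat.of ℂ)).hom a) := by
    simp
  constructor
  · intro hm h0
    rw [h0, map_zero] at this
    subst this
    simp at hm
  · intro hne
    have hu : IsUnit a := by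
      rw [this]
      exact (IsUnit.mk0 _ hne).map _
    rw [Scheme.basicOpen_of_isUnit _ hu]
    exact Opens.mem_top _

variable {Y : Scheme.{0}} [Y.Over SC]

lemma evTop_map (g : X ⟶ Y) [g.IsOver SC] (x : Pts X) (f : Γ(Y, ⊤)) :
    (Pts.map g x).evTop f = x.evTop (g.appTop f) := Pts.ev_map g x ⊤ _ f

lemma strHom_comp (g : X ⟶ Y) [g.IsOver SC] :
    g.appTop.hom.comp (strHom Y) = strHom X := by
  unfold strHom
  rw [← RingHom.comp_assoc, ← CommRingCat.hom_comp, ← Scheme.Hom.comp_appTop, comp_over g]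

/-! ### Closed points -/

lemma lft_of_over [LocallyOfFiniteType (X ↘ SC)] (g : X ⟶ Y) [g.IsOver SC] :
    LocallyOfFiniteType g := by
  have : LocallyOfFiniteType (g ≫ (Y ↘ SC)) := by rw [comp_over g]; infer_instance
  exact locallyOfFiniteType_of_comp g (Y ↘ SC)

lemma jacobsonSpace_of_lft (X : Scheme.{0}) [X.Over SC] [LocallyOfFiniteType (X ↘ SC)] :
    JacobsonSpace ↥X :=
  LocallyOfFiniteType.jacobsonSpace (X ↘ SC)

variable [LocallyOfFiniteType (X ↘ SC)]

lemma isClosed_pt (x : Pts X) : IsClosed ({x.pt} : Set ↥X) := by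
  have h := ((pointEquivClosedPoint (X ↘ SC)) ⟨x.1, x.2⟩).2
  have e : x.pt = x.1 (IsLocalRing.closedPoint ℂ) := congrArg x.1 cpt_eq_closedPoint
  rw [e]
  exact h

lemma pt_injective : Function.Injective (Pts.pt : Pts X → X) := fun x y h => by
  have e : ∀ z : Pts X, z.pt = z.1 (IsLocalRing.closedPoint ℂ) :=
    fun z => congrArg z.1 cpt_eq_closedPoint
  exact Subtype.ext (ext_of_apply_closedPoint_eq (X ↘ SC) x.2 y.2 ((e x).symm.trans (h.trans (e y))))

lemma exists_pt_eq {z : X} (hz : IsClosed ({z} : Set ↥X)) : ∃ x : Pts X, x.pt = z :=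
  ⟨⟨pointOfClosedPoint (X ↘ SC) z hz, pointOfClosedPoint_comp _ _ _⟩,
    pointOfClosedPoint_apply _ _ _ _⟩

lemma range_pt : Set.range (Pts.pt : Pts X → X) = closedPoints ↥X := by
  ext z
  exact ⟨by rintro ⟨x, rfl⟩; exact isClosed_pt x, fun hz => exists_pt_eq hz⟩

lemma exists_pt_mem_locallyClosed {S : Set ↥X} (hS : IsLocallyClosed S) (hne : S.Nonempty) :
    ∃ x : Pts X, x.pt ∈ S := by
  have := jacobsonSpace_of_lft X
  obtain ⟨z, hzS, hz⟩ := nonempty_inter_closedPoints hne hS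
  obtain ⟨x, rfl⟩ := exists_pt_eq hz
  exact ⟨x, hzS⟩

end Groth.Agent.Lib.AnPts
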