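import Groth.Agent.Lib.AnPts.Dense

/-!
# Ranges, injectivity of maps on ℂ-points; affine space; local compactness
-/

open AlgebraicGeometry CategoryTheory TopologicalSpace Opposite Topology

noncomputable section

namespace Groth.Agent.Lib.AnPts

open An

lemma lfp_of_lft {X Y : Scheme.{0}} [Y.Over SC] [LocallyOfFiniteType (Y ↘ SC)] (f : X ⟶ Y)
    [hf : LocallyOfFiniteType f] : LocallyOfFinitePresentation f := by
  refine (HasRingHomProperty.iff_appLE (P := @LocallyOfFinitePresentation)).2 fun U V e => ?_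
  have h := f.finiteType_appLE U.2 V.2 e
  have : IsLocallyNoetherian Y := LocallyOfFiniteType.isLocallyNoetherian (Y ↘ SC)
  have : IsNoetherianRing Γ(Y, U.1) := IsLocallyNoetherian.component_noetherian U
  exact RingHom.FinitePresentation.of_finiteType.1 h

variable {X : Scheme.{0}} [X.Over SC] [LocallyOfFiniteType (X ↘ SC)]
variable {Y : Scheme.{0}} [Y.Over SC] [LocallyOfFiniteType (Y ↘ SC)]

lemma range_map_eq (f : X ⟶ Y) [f.IsOver SC] :
    Set.range (Pts.map f) = Pts.pt ⁻¹' Set.range f := by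
  ext y
  refine ⟨?_, fun ⟨z, hz⟩ => ?_⟩
  · rintro ⟨x, rfl⟩
    exact ⟨x.pt, (Pts.pt_map f x).symm⟩
  · obtain ⟨x, hx⟩ := exists_pt_mem_locallyClosed
      ((isClosed_pt y).preimage f.continuous).isLocallyClosed ⟨z, hz⟩
    exact ⟨x, pt_injective (by rw [Pts.pt_map]; exact hx)⟩

lemma isLocallyConstructible_range (f : X ⟶ Y) [f.IsOver SC] [QuasiCompact f] :
    IsLocallyConstructible (Set.range f) := by
  have := lft_of_over f
  have := lfp_of_lft f
  rw [← Set.image_univ]
  exact f.isLocallyConstructible_image IsLocallyConstructible.univ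

lemma surjective_iff (f : X ⟶ Y) [f.IsOver SC] [QuasiCompact f] :
    Function.Surjective f ↔ Function.Surjective (Pts.map f) := by
  rw [← Set.range_eq_univ, ← Set.range_eq_univ, range_map_eq]
  refine ⟨fun h => by rw [h]; rfl, fun h => ?_⟩
  refine Set.eq_univ_of_univ_subset (subset_of_pt_preimage_subset IsLocallyConstructible.univ
    (isLocallyConstructible_compl (isLocallyConstructible_range f)) ?_)
  rw [h]
  exact fun _ _ => trivial

lemma isOpen_iff_pts {T : Set ↥X} (hT : IsLocallyConstructible T) :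
    IsOpen T ↔ IsOpen (Pts.pt ⁻¹' T : Set (Pts X)) := by
  refine ⟨fun h => h.preimage Pts.continuous_pt, fun h => ?_⟩
  rw [← isClosed_compl_iff, ← closure_subset_iff_isClosed]
  refine subset_of_pt_preimage_subset (isLocallyConstructible_of_isClosed isClosed_closure)
    (by rwa [compl_compl]) ?_
  rw [preimage_closure_pt (isLocallyConstructible_compl hT)]
  exact h.isClosed_compl.closure_subset

lemma isClosed_iff_pts {T : Set ↥X} (hT : IsLocallyConstructible T) :
    IsClosed T ↔ IsClosed (Pts.pt ⁻¹' T : Set (Pts X)) := by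
  rw [← isOpen_compl_iff, ← isOpen_compl_iff (s := Pts.pt ⁻¹' T),
    isOpen_iff_pts (isLocallyConstructible_compl hT)]
  rfl

lemma dense_iff_pts {T : Set ↥X} (hT : IsLocallyConstructible T) :
    Dense T ↔ Dense (Pts.pt ⁻¹' T : Set (Pts X)) := by
  rw [dense_iff_closure_eq, dense_iff_closure_eq, ← preimage_closure_pt hT]
  refine ⟨fun h => by rw [h]; rfl, fun h => ?_⟩
  refine Set.eq_univ_of_univ_subset (subset_of_pt_preimage_subset IsLocallyConstructible.univ
    (isLocallyConstructible_compl (isLocallyConstructible_of_isClosed isClosed_closure)) ?_)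
  rw [h]
  exact fun _ _ => trivial

lemma injective_iff (f : X ⟶ Y) [f.IsOver SC] :
    Function.Injective f ↔ Function.Injective (Pts.map f) := by
  refine ⟨fun h x y e => pt_injective (h ?_), fun h x₁ x₂ e => ?_⟩
  · rw [← Pts.pt_map, ← Pts.pt_map, e]
  by_contra hne
  wlog hsp : ¬ x₂ ⤳ x₁ generalizing x₁ x₂
  · refine this x₂ x₁ e.symm (Ne.symm hne) fun h12 => hne ?_
    exact (h12.antisymm (not_not.1 hsp)).eq
  have := lft_of_over f
  obtain ⟨V, hV, hyV, -⟩ :=
    exists_isAffineOpen_mem_and_subset (U := ⊤) (x := f x₁) (Opens.mem_top _)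
  obtain ⟨U₁, hU₁, hx₁, hU₁V⟩ :=
    exists_isAffineOpen_mem_and_subset (U := f ⁻¹ᵁ V) (x := x₁) hyV
  obtain ⟨U₂, hU₂, hx₂, hU₂V⟩ :=
    exists_isAffineOpen_mem_and_subset (U := f ⁻¹ᵁ V) (x := x₂) (show f x₂ ∈ V from e ▸ hyV)
  -- images of the pieces are locally constructible inside `V`
  have himg : ∀ (U : X.Opens), IsAffineOpen U → U ≤ f ⁻¹ᵁ V → ∀ S : Set ↥X,
      IsLocallyConstructible S → IsLocallyConstructible (f '' (S ∩ (U : Set ↥X))) := by
    intro U hU hUV S hS
    have : IsAffine U.toScheme := hU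
    have : IsAffine V.toScheme := hV
    have : LocallyOfFiniteType (V.toScheme ↘ SC) :=
      show LocallyOfFiniteType (V.ι ≫ Y ↘ SC) from inferInstance
    have := lfp_of_lft (f.resLE V U hUV)
    have hl := (f.resLE V U hUV).isLocallyConstructible_image
      (hS.preimage_of_isOpenEmbedding U.ι.isOpenEmbedding)
    have hn : NoetherianSpace ↥(V.toScheme) := noetherianSpace_of_isAffine V.toScheme
    have himage : f '' (S ∩ (U : Set ↥X)) = V.ι '' (f.resLE V U hUV '' (U.ι ⁻¹' S)) := by
      rw [← Set.image_comp, ← U.range_ι, ← Set.image_preimage_eq_inter_range, ← Set.image_comp]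
      refine Set.image_congr fun z _ => ?_
      simp only [Function.comp_apply, ← Scheme.Hom.comp_apply, Scheme.Hom.resLE_comp_ι]
    rw [himage]
    intro z
    obtain ⟨W, hW, hzW, -⟩ :=
      exists_isAffineOpen_mem_and_subset (U := ⊤) (x := z) (Opens.mem_top _)
    have : IsAffine W.toScheme := hW
    have : LocallyOfFiniteType (W.toScheme ↘ SC) :=
      show LocallyOfFiniteType (W.ι ≫ Y ↘ SC) from inferInstance
    have : NoetherianSpace ↥(W : Set ↥Y) := noetherianSpace_of_isAffine W.toScheme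
    refine ⟨W, W.2.mem_nhds hzW, W.2, ?_⟩
    have hr : IsRetrocompact (Set.range V.ι) := by
      rw [V.range_ι]
      intro t ht hto
      have : NoetherianSpace ↥(V : Set ↥Y) := hn
      have : IsCompact ((Subtype.val : ↥(V : Set ↥Y) → ↥Y) ⁻¹' t) := NoetherianSpace.isCompact _
      convert this.image continuous_subtype_val using 1
      rw [Subtype.image_preimage_coe]
    have hc : IsConstructible (V.ι '' (f.resLE V U hUV '' (U.ι ⁻¹' S))) :=
      (hl.isConstructible).image_of_isOpenEmbedding V.ι.isOpenEmbedding hr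
    exact hc.preimage_of_isOpenEmbedding W.2.isOpenEmbedding_subtypeVal
  have hA : IsLocallyConstructible (closure {x₁} \ closure {x₂} : Set ↥X) :=
    (isLocallyConstructible_of_isClosed isClosed_closure).inter
      (isLocallyConstructible_of_isOpen isClosed_closure.isOpen_compl)
  have hB : IsLocallyConstructible (closure {x₂} : Set ↥X) :=
    isLocallyConstructible_of_isClosed isClosed_closure
  obtain ⟨y, ⟨a, ha, hay⟩, ⟨b, hb, hby⟩⟩ := exists_pt_mem_of_isLocallyConstructible
    ((himg U₁ hU₁ hU₁V _ hA).inter (himg U₂ hU₂ hU₂V _ hB))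
    ⟨f x₁, ⟨x₁, ⟨⟨subset_closure rfl, fun h' => hsp (specializes_iff_mem_closure.2 h')⟩, hx₁⟩, rfl⟩,
      ⟨x₂, ⟨subset_closure rfl, hx₂⟩, e.symm⟩⟩
  obtain ⟨p, hp1, hp2⟩ := exists_pt_mem_locallyClosed
    (((isClosed_closure (s := ({x₁} : Set ↥X))).isLocallyClosed.inter
      (isClosed_closure (s := ({x₂} : Set ↥X))).isOpen_compl.isLocallyClosed).inter
      (U₁.2.isLocallyClosed.inter ((isClosed_pt y).preimage f.continuous).isLocallyClosed))
    ⟨a, ha.1, ha.2, hay⟩
  obtain ⟨q, hq1, hq2⟩ := exists_pt_mem_locallyClosed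
    ((isClosed_closure (s := ({x₂} : Set ↥X))).isLocallyClosed.inter
      (U₂.2.isLocallyClosed.inter ((isClosed_pt y).preimage f.continuous).isLocallyClosed))
    ⟨b, hb.1, hb.2, hby⟩
  have : p = q := h (pt_injective (by rw [Pts.pt_map, Pts.pt_map]; exact hp2.2.trans hq2.2.symm))
  exact hp1.2 (this ▸ hq1)

section AffineSpace

open AffineSpace

lemma bijective_eval₂_coord (n : ℕ) :
    Function.Bijective (MvPolynomial.eval₂Hom (strHom (𝔸(Fin n; SC))) (coord SC)) := by
  have h1 : IsIso ((SpecIso (Fin n) (CommRingCat.of ℂ)).hom.appTop) :=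
    (Scheme.Γ.mapIso (SpecIso (Fin n) (CommRingCat.of ℂ)).op).isIso_hom
  rw [SpecIso_hom_appTop] at h1
  have : IsIso (CommRingCat.ofHom (MvPolynomial.eval₂Hom (strHom (𝔸(Fin n; SC))) (coord SC))) :=
    @IsIso.of_isIso_comp_left _ _ _ _ _ (Scheme.ΓSpecIso _).hom _ _ h1
  exact (ConcreteCategory.isIso_iff_bijective _).1 this

lemma isHomeomorph_coord (n : ℕ) :
    IsHomeomorph (fun (x : Pts (𝔸(Fin n; SC))) (i : Fin n) => x.evTop (coord SC i)) := by
  rw [isHomeomorph_iff_isEmbedding_surjective]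
  refine ⟨isEmbedding_evTop _ (bijective_eval₂_coord n).2, fun v => ?_⟩
  refine ⟨⟨homOfVector (𝟙 SC) (fun i => (Scheme.ΓSpecIso (CommRingCat.of ℂ)).inv (v i)),
    homOfVector_over _ _⟩, funext fun i => ?_⟩
  refine (evTop_eq_appTop _ _).trans ?_
  rw [homOfVector_appTop_coord]
  simp

end AffineSpace

lemma locallyCompactSpace_pts : LocallyCompactSpace (Pts X) := by
  refine ⟨fun x N hN => ?_⟩
  obtain ⟨W, hW, hxW, -⟩ :=
    exists_isAffineOpen_mem_and_subset (U := ⊤) (x := x.pt) (Opens.mem_top _)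
  have : IsAffine W.toScheme := hW
  have : LocallyOfFiniteType (W.toScheme ↘ SC) :=
    show LocallyOfFiniteType (W.ι ≫ X ↘ SC) from inferInstance
  obtain ⟨n, s, hs⟩ := exists_generators W.toScheme
  have : LocallyCompactSpace (Pts W.toScheme) :=
    (isClosedEmbedding_evTop s hs).locallyCompactSpace
  obtain ⟨x', rfl⟩ := exists_map_ι_eq hxW
  obtain ⟨K, hK, hKN, hKc⟩ :=
    local_compact_nhds ((Pts.continuous_map W.ι).continuousAt.preimage_mem_nhds hN)
  exact ⟨Pts.map W.ι '' K, (isOpenEmbedding_map_ι W).isOpenMap.image_mem_nhds hK,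
    Set.image_subset_iff.2 hKN, hKc.image (Pts.continuous_map W.ι)⟩

lemma discreteTopology_iff : DiscreteTopology ↥X ↔ DiscreteTopology (Pts X) := by
  refine ⟨fun h => DiscreteTopology.of_continuous_injective Pts.continuous_pt pt_injective,
    fun h => ?_⟩
  have hopen : ∀ x : Pts X, IsOpen ({x.pt} : Set ↥X) := fun x => by
    rw [isOpen_iff_pts (isLocallyConstructible_of_isClosed (isClosed_pt x))]
    exact isOpen_discrete _
  have hall : ∀ z : X, ∃ x : Pts X, x.pt = z := fun z => by
    obtain ⟨x, hx⟩ := exists_pt_mem_locallyClosed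
      (isClosed_closure (s := ({z} : Set ↥X))).isLocallyClosed ⟨z, subset_closure rfl⟩
    refine ⟨x, ?_⟩
    have := (specializes_iff_mem_closure.2 hx).mem_open (hopen x) rfl
    exact (Set.mem_singleton_iff.1 this).symm
  rw [discreteTopology_iff_isOpen_singleton]
  intro z
  obtain ⟨x, rfl⟩ := hall z
  exact hopen x

end Groth.Agent.Lib.AnPts
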