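import Groth.Agent.Lib.AnPts.Basic
import Mathlib.AlgebraicGeometry.AffineSpace
import Mathlib.Topology.Algebra.MvPolynomial

/-!
# ℂ-points of affine schemes
-/

open AlgebraicGeometry CategoryTheory TopologicalSpace Opposite Topology

noncomputable section

namespace Groth.Agent.Lib.AnPts

open An

variable {X : Scheme.{0}} [X.Over SC]

lemma continuous_evTop (f : Γ(X, ⊤)) : Continuous (fun x : Pts X => x.evTop f) := by
  refine continuous_def.2 fun V hV => ?_
  have : (fun x : Pts X => x.evTop f) ⁻¹' V = Pts.basicSet ⊤ f V := by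
    ext x
    exact ⟨fun h => ⟨Opens.mem_top _, h⟩, fun ⟨_, h⟩ => h⟩
  rw [this]
  exact Pts.isOpen_basicSet _ _ hV

lemma continuous_pi_evTop {ι : Type*} (s : ι → Γ(X, ⊤)) :
    Continuous (fun (x : Pts X) (i : ι) => x.evTop (s i)) :=
  continuous_pi fun i => continuous_evTop (s i)

variable (X) [IsAffine X]

/-- On an affine scheme the topology is induced by the values of the global functions. -/
lemma topology_eq_induced_evTop :
    (Pts.topologicalSpace : TopologicalSpace (Pts X)) =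
      TopologicalSpace.induced (fun (x : Pts X) (f : Γ(X, ⊤)) => x.evTop f) inferInstance := by
  refine le_antisymm (continuous_iff_le_induced.1 (continuous_pi_evTop id)) ?_
  refine le_generateFrom ?_
  rintro _ ⟨U, f, V, hV, rfl⟩
  rw [@isOpen_iff_forall_mem_open]
  rintro x ⟨hxU, hxV⟩
  obtain ⟨g, hgU, hxg⟩ := (isAffineOpen_top X).exists_basicOpen_le (V := U) ⟨x.pt, hxU⟩ (Opens.mem_top _)
  let res : Γ(X, U) := f
  let f' : Γ(X, X.basicOpen g) := X.presheaf.map (homOfLE hgU).op res
  have := (isAffineOpen_top X).isLocalization_basicOpen g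
  obtain ⟨⟨a, ⟨_, n, rfl⟩⟩, ha⟩ := IsLocalization.surj (Submonoid.powers g) f'
  have key : ∀ (y : Pts X) (hy : y.pt ∈ X.basicOpen g),
      y.ev U (hgU hy) f * y.evTop g ^ n = y.evTop a := by
    intro y hy
    have h1 : y.ev (X.basicOpen g) hy f' = y.ev U (hgU hy) f := ev_map_res y hgU hy f
    have h2 := congrArg (evHom y (X.basicOpen g) hy) ha
    simp only [map_mul] at h2
    have h3 : ∀ b : Γ(X, ⊤),
        evHom y (X.basicOpen g) hy (algebraMap Γ(X, ⊤) Γ(X, X.basicOpen g) b) = y.evTop b :=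
      fun b => ev_map_res y (X.basicOpen_le g) hy b
    rw [h3, h3] at h2
    rw [← h1]
    have h4 : y.evTop (g ^ n) = y.evTop g ^ n := ev_pow y ⊤ _ g n
    rw [← h4]
    exact h2
  refine ⟨(fun (y : Pts X) (h : Γ(X, ⊤)) => y.evTop h) ⁻¹'
    {v : Γ(X, ⊤) → ℂ | v g ≠ 0 ∧ v a / v g ^ n ∈ V}, ?_, ?_, ?_⟩
  · rintro y ⟨hy0, hyV⟩
    have hy : y.pt ∈ X.basicOpen g := (pt_mem_basicOpen_iff y (Opens.mem_top _) g).2 hy0
    refine ⟨hgU hy, ?_⟩
    change y.evTop a / y.evTop g ^ n ∈ V at hyV
    change y.evTop g ≠ 0 at hy0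
    rw [← key y hy, mul_div_cancel_right₀ _ (pow_ne_zero n hy0)] at hyV
    exact hyV
  · refine isOpen_induced ?_
    have h1 : IsOpen {v : Γ(X, ⊤) → ℂ | v g ≠ 0} := (isOpen_ne).preimage (continuous_apply g)
    have h2 : ContinuousOn (fun v : Γ(X, ⊤) → ℂ => v a / v g ^ n) {v | v g ≠ 0} :=
      ((continuous_apply a).continuousOn).div ((continuous_apply g).pow n).continuousOn
        (fun v hv => pow_ne_zero n hv)
    exact h2.isOpen_inter_preimage h1 hV
  · have hx0 : x.evTop g ≠ 0 := (pt_mem_basicOpen_iff x (Opens.mem_top _) g).1 hxg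
    refine ⟨hx0, ?_⟩
    show x.evTop a / x.evTop g ^ n ∈ V
    rw [← key x hxg, mul_div_cancel_right₀ _ (pow_ne_zero n hx0)]
    exact hxV

variable {X}

lemma ext_of_evTop {x y : Pts X} (h : ∀ f, x.evTop f = y.evTop f) : x = y := by
  refine Subtype.ext (ext_of_isAffine ?_)
  ext f
  have := h f
  rw [evTop_eq_appTop, evTop_eq_appTop] at this
  exact (Scheme.ΓSpecIso (CommRingCat.of ℂ)).commRingCatIsoToRingEquiv.injective this

lemma exists_pts_of_ringHom (φ : Γ(X, ⊤) →+* ℂ) (hφ : ∀ c : ℂ, φ (strHom X c) = c) :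
    ∃ x : Pts X, ∀ f, x.evTop f = φ f := by
  let x₁ : SC ⟶ X := Spec.map (CommRingCat.ofHom φ) ≫ X.isoSpec.inv
  have happ : ∀ f : Γ(X, ⊤), (Scheme.ΓSpecIso (CommRingCat.of ℂ)).hom (x₁.appTop f) = φ f := by
    intro f
    have e : x₁.appTop ≫ (Scheme.ΓSpecIso (CommRingCat.of ℂ)).hom = CommRingCat.ofHom φ := by
      simp only [x₁, Scheme.Hom.comp_appTop, Category.assoc, Scheme.ΓSpecIso_naturality]
      have e2 : X.isoSpec.inv.appTop ≫ X.toSpecΓ.appTop = 𝟙 _ := by
        rw [← Scheme.Hom.comp_appTop, Scheme.toSpecΓ_isoSpec_inv]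
        rfl
      rw [Scheme.toSpecΓ_appTop] at e2
      exact (Category.assoc _ _ _).symm.trans ((congrArg (· ≫ _) e2).trans (Category.id_comp _))
    exact DFunLike.congr_fun (congrArg CommRingCat.Hom.hom e) f
  refine ⟨⟨x₁, ?_⟩, fun f => ?_⟩
  · refine ext_of_isAffine ?_
    rw [← cancel_mono (Scheme.ΓSpecIso (CommRingCat.of ℂ)).hom,
      ← cancel_epi (Scheme.ΓSpecIso (CommRingCat.of ℂ)).inv]
    ext c
    simp only [Scheme.Hom.comp_appTop, CategoryTheory.comp_apply]
    refine (happ _).trans ((hφ c).trans ?_)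
    simp
  · refine Eq.trans ?_ (happ f)
    exact evTop_eq_appTop _ f

/-! ### Generators -/

variable {ι : Type} (s : ι → Γ(X, ⊤))

omit [IsAffine X] in
lemma evTop_eval₂ (x : Pts X) (P : MvPolynomial ι ℂ) :
    x.evTop (MvPolynomial.eval₂Hom (strHom X) s P) =
      MvPolynomial.eval (fun i => x.evTop (s i)) P := by
  have : (evTopHom x).comp (MvPolynomial.eval₂Hom (strHom X) s) =
      MvPolynomial.eval (fun i => x.evTop (s i)) := by
    refine MvPolynomial.ringHom_ext (fun c => ?_) (fun i => ?_)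
    · simp [evTopHom_apply]
    · simp [evTopHom_apply]
  exact DFunLike.congr_fun this P

variable (hs : Function.Surjective (MvPolynomial.eval₂Hom (strHom X) s))

include hs

lemma isEmbedding_evTop : IsEmbedding (fun (x : Pts X) (i : ι) => x.evTop (s i)) := by
  refine ⟨⟨?_⟩, fun x y h => ext_of_evTop fun f => ?_⟩
  · refine le_antisymm (continuous_iff_le_induced.1 (continuous_pi_evTop s)) ?_
    conv_rhs => rw [topology_eq_induced_evTop X]
    refine continuous_iff_le_induced.1 ?_
    let : TopologicalSpace (Pts X) :=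
      TopologicalSpace.induced (fun (x : Pts X) (i : ι) => x.evTop (s i)) inferInstance
    refine continuous_pi fun f => ?_
    obtain ⟨P, rfl⟩ := hs f
    simp only [evTop_eval₂]
    exact (MvPolynomial.continuous_eval P).comp continuous_induced_dom
  · obtain ⟨P, rfl⟩ := hs f
    rw [evTop_eval₂, evTop_eval₂]
    exact congrArg (fun v => MvPolynomial.eval v P) h

lemma range_evTop :
    Set.range (fun (x : Pts X) (i : ι) => x.evTop (s i)) =
      {v | ∀ P ∈ RingHom.ker (MvPolynomial.eval₂Hom (strHom X) s), MvPolynomial.eval v P = 0} := by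
  refine Set.Subset.antisymm ?_ fun v hv => ?_
  · rintro _ ⟨x, rfl⟩ P hP
    rw [← evTop_eval₂, RingHom.mem_ker.1 hP]
    exact map_zero (evTopHom x)
  · let φ := RingHom.liftOfSurjective (MvPolynomial.eval₂Hom (strHom X) s) hs
      ⟨MvPolynomial.eval v, fun P hP => RingHom.mem_ker.2 (hv P hP)⟩
    have hφ : ∀ P, φ (MvPolynomial.eval₂Hom (strHom X) s P) = MvPolynomial.eval v P :=
      RingHom.liftOfSurjective_comp_apply _ hs _
    have hφc : ∀ c, φ (strHom X c) = c := fun c => by
      simpa using hφ (MvPolynomial.C c)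
    obtain ⟨x, hx⟩ := exists_pts_of_ringHom φ hφc
    refine ⟨x, funext fun i => ?_⟩
    show x.evTop (s i) = v i
    rw [hx]
    simpa using hφ (MvPolynomial.X i)

lemma isClosedEmbedding_evTop : IsClosedEmbedding (fun (x : Pts X) (i : ι) => x.evTop (s i)) := by
  refine ⟨isEmbedding_evTop s hs, ?_⟩
  rw [range_evTop s hs, Set.ofPred_forall]
  refine isClosed_iInter fun P => ?_
  by_cases hP : P ∈ RingHom.ker (MvPolynomial.eval₂Hom (strHom X) s)
  · simpa [hP] using isClosed_eq (MvPolynomial.continuous_eval P) continuous_const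
  · simp [hP]

end Groth.Agent.Lib.AnPts
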