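import Mathlib.RingTheory.NoetherNormalization
import Mathlib.FieldTheory.Minpoly.IsIntegrallyClosed
import Mathlib.Analysis.Complex.Polynomial.Basic
import Mathlib.Topology.Algebra.MvPolynomial
import Mathlib.RingTheory.Polynomial.UniqueFactorization
import Mathlib.RingTheory.Jacobson.Ring
import Mathlib.Algebra.MvPolynomial.Funext
import Mathlib.RingTheory.Polynomial.RationalRoot

/-!
# Nonvanishing loci are dense among the characters of an affine variety

For a finitely generated ℂ-domain `A` and `g ≠ 0`, every ℂ-point of `A` is a pointwise limit of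
ℂ-points at which `g` does not vanish.
-/

open Filter Topology Polynomial

noncomputable section

namespace Groth.Agent.Lib.AnPts

/-- The bound on roots is continuous. -/
lemma norm_le_of_monic_root {p : ℂ[X]} (hp : p.Monic) {r : ℂ} (hr : p.eval r = 0) :
    ‖r‖ ≤ 1 + ∑ i ∈ Finset.range p.natDegree, ‖p.coeff i‖ := by
  set n := p.natDegree
  have hsum : 0 ≤ ∑ i ∈ Finset.range n, ‖p.coeff i‖ := Finset.sum_nonneg fun i _ => norm_nonneg _
  rcases le_or_gt ‖r‖ 1 with h | h
  · linarith
  rcases Nat.eq_zero_or_pos n with hn | hn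
  · rw [Polynomial.eq_one_of_monic_natDegree_zero hp hn] at hr
    simp at hr
  have e : p.eval r = r ^ n + ∑ i ∈ Finset.range n, p.coeff i * r ^ i := by
    rw [eval_eq_sum_range, Finset.sum_range_succ, add_comm, hp.coeff_natDegree, one_mul]
  have h1 : ‖r‖ ^ n ≤ (∑ i ∈ Finset.range n, ‖p.coeff i‖) * ‖r‖ ^ (n - 1) := by
    rw [← norm_pow, eq_neg_of_add_eq_zero_left (e.symm.trans hr), norm_neg, Finset.sum_mul]
    refine (norm_sum_le _ _).trans (Finset.sum_le_sum fun i hi => ?_)
    rw [norm_mul, norm_pow]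
    exact mul_le_mul_of_nonneg_left (pow_le_pow_right₀ h.le (by have := Finset.mem_range.1 hi; omega))
      (norm_nonneg _)
  have h2 : ‖r‖ ^ n = ‖r‖ * ‖r‖ ^ (n - 1) := by rw [← pow_succ']; congr 1; omega
  rw [h2] at h1
  have := le_of_mul_le_mul_right h1 (by positivity)
  linarith

/-- A monic polynomial with small value at `a` has a root near `a`. -/
lemma exists_root_near {p : ℂ[X]} (hp : p.Monic) (hn : 0 < p.natDegree) {a : ℂ} {ε : ℝ} (hε : 0 ≤ ε)
    (h : ‖p.eval a‖ < ε ^ p.natDegree) : ∃ r, p.eval r = 0 ∧ ‖a - r‖ < ε := by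
  have hs := IsAlgClosed.splits p
  have hcard : p.roots.card = p.natDegree := (hs.natDegree_eq_card_roots).symm
  have hev : p.eval a = (p.roots.map (fun r => a - r)).prod := by
    conv_lhs => rw [hs.eq_prod_roots_of_monic hp]
    rw [eval_multiset_prod, Multiset.map_map]
    simp
  by_contra hcon
  push Not at hcon
  refine absurd h (not_lt.2 ?_)
  rw [hev, ← hcard]
  have : ∀ m : Multiset ℂ, (∀ r ∈ m, ε ≤ ‖a - r‖) →
      ε ^ Multiset.card m ≤ ‖(m.map (fun r => a - r)).prod‖ := by
    intro m hm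
    induction m using Multiset.induction with
    | empty => simp
    | cons b m ih =>
      rw [Multiset.card_cons, Multiset.map_cons, Multiset.prod_cons, norm_mul, pow_succ']
      exact mul_le_mul (hm b (Multiset.mem_cons_self _ _))
        (ih fun r hr => hm r (Multiset.mem_cons_of_mem hr)) (pow_nonneg hε _) (norm_nonneg _)
  exact this _ fun r hr => hcon r ((mem_roots hp.ne_zero).1 hr)

/-- Nonvanishing loci of polynomials are dense. -/
lemma dense_eval_ne_zero {d : ℕ} {h : MvPolynomial (Fin d) ℂ} (hh : h ≠ 0) :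
    Dense {z : Fin d → ℂ | MvPolynomial.eval z h ≠ 0} := by
  rw [dense_iff_inter_open]
  rintro U hU ⟨z, hz⟩
  obtain ⟨r, hr, hball⟩ := Metric.isOpen_iff.1 hU z hz
  by_contra hne
  refine hh (MvPolynomial.funext_set (fun i => Metric.ball (z i) r)
    (fun i => infinite_of_mem_nhds _ (Metric.ball_mem_nhds _ hr)) ?_)
  intro w hw
  rw [map_zero]
  by_contra hw0
  refine hne ⟨w, hball ?_, hw0⟩
  rw [Metric.mem_ball, dist_pi_lt_iff hr]
  exact fun i => hw i (Set.mem_univ i)

variable {A : Type} [CommRing A] [Algebra ℂ A]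

/-- Over an integral extension, characters extend. -/
lemma exists_algHom_extend [Algebra.FiniteType ℂ A] (B : Subalgebra ℂ A) [Algebra.IsIntegral B A]
    (ψ : B →ₐ[ℂ] ℂ) : ∃ φ : A →ₐ[ℂ] ℂ, ∀ b : B, φ b = ψ b := by
  have hm : (RingHom.ker ψ).IsMaximal :=
    RingHom.ker_isMaximal_of_surjective ψ (fun c => ⟨algebraMap ℂ B c, ψ.commutes c⟩)
  obtain ⟨M, hM, hMB⟩ := Ideal.exists_ideal_over_maximal_of_isIntegral (S := A) (RingHom.ker ψ)
    (by
      intro b hb
      have : b = 0 := Subtype.ext hb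
      simp [this])
  let := Ideal.Quotient.field M
  have hbij : Function.Bijective (algebraMap ℂ (A ⧸ M)) := by
    have : Module.Finite ℂ (A ⧸ M) := finite_of_finite_type_of_isJacobsonRing ℂ (A ⧸ M)
    exact IsAlgClosed.algebraMap_bijective_of_isIntegral
  let e := AlgEquiv.ofBijective (Algebra.ofId ℂ (A ⧸ M)) hbij
  refine ⟨(e.symm : (A ⧸ M) →ₐ[ℂ] ℂ).comp (Ideal.Quotient.mkₐ ℂ M), fun b => ?_⟩
  have h1 : b - algebraMap ℂ B (ψ b) ∈ RingHom.ker ψ := by simp [RingHom.mem_ker]
  rw [← hMB] at h1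
  have h2 : (Ideal.Quotient.mk M) (b : A) = Ideal.Quotient.mk M (algebraMap ℂ A (ψ b)) :=
    Ideal.Quotient.eq.2 h1
  show e.symm (Ideal.Quotient.mk M (b : A)) = ψ b
  rw [h2, e.symm_apply_eq]
  rfl

/-- A locally bounded family of functions has a limit as soon as it has a unique cluster point. -/
lemma tendsto_pi_of_unique_cluster {ι T : Type} {F : Filter T} (u : T → ι → ℂ) (v : ι → ℂ)
    (hbd : ∀ i, ∃ C, ∀ᶠ t in F, ‖u t i‖ ≤ C)
    (huniq : ∀ w, MapClusterPt w F u → w = v) : Tendsto u F (𝓝 v) := by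
  classical
  choose C hC using hbd
  refine tendsto_pi_nhds.2 fun i => ?_
  by_contra hi
  obtain ⟨s, hs, hfreq⟩ := not_tendsto_iff_exists_frequently_notMem.1 hi
  let G : Filter T := F ⊓ 𝓟 {t | u t i ∉ s}
  have hG : G.NeBot := frequently_mem_iff_neBot.1 hfreq
  let U := Ultrafilter.of G
  have hU : (U : Filter T) ≤ G := Ultrafilter.of_le G
  have hlim : ∀ j, ∃ w, Tendsto (fun t => u t j) U (𝓝 w) := fun j => by
    have hb : ∀ᶠ t in (U : Filter T), u t j ∈ Metric.closedBall 0 (C j) :=
      (Filter.Eventually.filter_mono (hU.trans inf_le_left) (hC j)).mono fun t ht => by simpa using ht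
    obtain ⟨w, -, hw⟩ := (isCompact_closedBall (0 : ℂ) (C j)).ultrafilter_le_nhds
      (U.map fun t => u t j) (by rw [Ultrafilter.coe_map, le_principal_iff]; exact hb)
    exact ⟨w, hw⟩
  choose w hw using hlim
  have ht : Tendsto u U (𝓝 w) := tendsto_pi_nhds.2 hw
  have hwv : w = v := huniq w ((ht.mapClusterPt).mono (hU.trans inf_le_left))
  have h1 : ∀ᶠ t in (U : Filter T), u t i ∈ s := hw i (by rw [hwv]; exact hs)
  have h2 : ∀ᶠ t in (U : Filter T), u t i ∉ s := (hU.trans inf_le_right) (mem_principal_self _)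
  obtain ⟨t, h3, h4⟩ := (h1.and h2).exists
  exact h4 h3

omit [Algebra ℂ A] in
/-- Characters with bounded data stay bounded. -/
lemma eventually_bounded {T : Type} {F : Filter T} {P : Type} [CommRing P] [Algebra P A]
    {b : A} (hb : IsIntegral P b) (φ : T → A →+* ℂ) (χ : P → ℂ)
    (hχ : ∀ c, Tendsto (fun t => φ t (algebraMap P A c)) F (𝓝 (χ c))) :
    ∃ C, ∀ᶠ t in F, ‖φ t b‖ ≤ C := by
  obtain ⟨p, hp, hpb⟩ := hb
  refine ⟨1 + ∑ i ∈ Finset.range p.natDegree, (‖χ (p.coeff i)‖ + 1), ?_⟩
  have h1 : ∀ᶠ t in F, ∀ i ∈ Finset.range p.natDegree,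
      ‖φ t (algebraMap P A (p.coeff i))‖ ≤ ‖χ (p.coeff i)‖ + 1 := by
    refine (Finset.eventually_all _).2 fun i _ => ?_
    exact ((hχ _).norm).eventually (eventually_le_nhds (lt_add_one _))
  refine h1.mono fun t ht => ?_
  have hq : (p.map ((φ t).comp (algebraMap P A))).Monic := hp.map _
  have hdeg : (p.map ((φ t).comp (algebraMap P A))).natDegree = p.natDegree :=
    hp.natDegree_map _
  have hr : (p.map ((φ t).comp (algebraMap P A))).eval (φ t b) = 0 := by
    rw [eval_map, ← hom_eval₂, hpb, map_zero]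
  refine (norm_le_of_monic_root hq hr).trans ?_
  rw [hdeg]
  refine add_le_add le_rfl (Finset.sum_le_sum fun i hi => ?_)
  rw [coeff_map]
  exact ht i hi

variable [IsDomain A] [Algebra.FiniteType ℂ A]

/-- The core density statement. -/
theorem mem_closure_ne_zero {g : A} (hg : g ≠ 0) (φ₀ : A →ₐ[ℂ] ℂ) :
    (φ₀ : A → ℂ) ∈ closure ((fun φ : A →ₐ[ℂ] ℂ => (φ : A → ℂ)) '' {φ | φ g ≠ 0}) := by
  classical
  obtain ⟨d, ι, hinj, hfin⟩ := exists_finite_inj_algHom_of_fg ℂ A
  let P := MvPolynomial (Fin d) ℂ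
  let : Algebra P A := ι.toRingHom.toAlgebra
  have : IsScalarTower ℂ P A := IsScalarTower.of_algebraMap_eq fun c => (ι.commutes c).symm
  have : Module.Finite P A := hfin
  have : Module.IsTorsionFree P A :=
    Module.isTorsionFree_iff_algebraMap_injective.2 hinj
  let z₀ : Fin d → ℂ := fun i => φ₀ (ι (MvPolynomial.X i))
  have hφ₀ : ∀ c : P, φ₀ (ι c) = MvPolynomial.eval z₀ c := fun c => by
    show φ₀.comp ι c = _
    rw [MvPolynomial.aeval_unique (φ₀.comp ι), ← MvPolynomial.coe_aeval_eq_eval]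
    rfl
  -- the fibre over `z₀` is finite
  have hfib : {φ : A →ₐ[ℂ] ℂ | φ.comp ι = φ₀.comp ι}.Finite := by
    obtain ⟨s, hs⟩ := Module.Finite.fg_top (R := P) (M := A)
    have hroot : ∀ b ∈ s, {r : ℂ | ∃ φ : A →ₐ[ℂ] ℂ, φ.comp ι = φ₀.comp ι ∧ φ b = r}.Finite := by
      intro b _
      obtain ⟨p, hp, hpb⟩ := Algebra.IsIntegral.isIntegral (R := P) b
      refine Set.Finite.subset (Polynomial.finite_setOfPred_isRoot (hp.map (φ₀.comp ι).toRingHom).ne_zero) ?_
      rintro r ⟨φ, hφ, rfl⟩
      show (p.map (φ₀.comp ι).toRingHom).eval (φ b) = 0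
      rw [← hφ, eval_map]
      have := congrArg φ hpb
      rw [map_zero] at this
      rw [← this]
      exact (hom_eval₂ p (algebraMap P A) φ.toRingHom b).symm
    refine Set.Finite.of_finite_image
      (f := fun (φ : A →ₐ[ℂ] ℂ) (b : s) => φ (b : A)) ?_ ?_
    · refine (Set.Finite.pi' (fun b : s => hroot b b.2)).subset ?_
      rintro _ ⟨φ, hφ, rfl⟩ b
      exact ⟨φ, hφ, rfl⟩
    · intro φ hφ φ' hφ' h
      refine AlgHom.ext fun a => ?_
      have ha : a ∈ Submodule.span P (s : Set A) := hs ▸ Submodule.mem_top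
      induction ha using Submodule.span_induction with
      | mem b hb => exact congr_fun h ⟨b, hb⟩
      | zero => simp
      | add x y _ _ hx hy => simp [map_add, hx, hy]
      | smul c x _ hx =>
        rw [Algebra.smul_def, map_mul, map_mul, hx]
        exact congrArg (· * _) ((DFunLike.congr_fun (hφ.trans hφ'.symm) c))
  -- an element separating `φ₀` in its fibre
  obtain ⟨a, ha0, ha1⟩ : ∃ a : A, φ₀ a = 0 ∧
      ∀ φ : A →ₐ[ℂ] ℂ, φ.comp ι = φ₀.comp ι → φ ≠ φ₀ → φ a ≠ 0 := by
    have hsep : ∀ φ : A →ₐ[ℂ] ℂ, φ ≠ φ₀ → ∃ b, φ₀ b = 0 ∧ φ b = 1 := by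
      intro φ hne
      obtain ⟨c, hc⟩ : ∃ c, φ c ≠ φ₀ c := by
        by_contra hcon
        push Not at hcon
        exact hne (AlgHom.ext hcon)
      refine ⟨algebraMap ℂ A (φ c - φ₀ c)⁻¹ * (c - algebraMap ℂ A (φ₀ c)), by simp, ?_⟩
      simp [inv_mul_cancel₀ (sub_ne_zero.2 hc)]
    choose b hb0 hb1 using hsep
    refine ⟨1 - ∏ φ ∈ (hfib.toFinset.erase φ₀).attach,
      (1 - b φ.1 (Finset.ne_of_mem_erase φ.2)), by simp [map_prod, hb0], fun φ hφ hne => ?_⟩
    rw [map_sub, map_one, map_prod, Finset.prod_eq_zero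
      (i := ⟨φ, Finset.mem_erase.2 ⟨hne, hfib.mem_toFinset.2 hφ⟩⟩) (Finset.mem_attach _ _)]
    · simp
    · simp [hb1]
  -- minimal polynomials
  have haI : IsIntegral P a := Algebra.IsIntegral.isIntegral a
  have hgI : IsIntegral P g := Algebra.IsIntegral.isIntegral g
  let h : P := (minpoly P g).coeff 0
  have hh : h ≠ 0 := by
    intro h0
    refine hg ?_
    have hX : X ∣ minpoly P g := X_dvd_iff.2 h0
    have hassoc := (minpoly.irreducible hgI).dvd_iff.1 hX
    rcases hassoc with hu | hassoc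
    · exact absurd hu not_isUnit_X
    · have : minpoly P g = X :=
        eq_of_monic_of_associated (minpoly.monic hgI) monic_X hassoc
      have h3 := minpoly.aeval P g
      rwa [this, aeval_X] at h3
  have hgh : ∀ φ : A →ₐ[ℂ] ℂ, φ (ι h) ≠ 0 → φ g ≠ 0 := by
    intro φ hφ hg0
    refine hφ ?_
    have e := congrArg φ (minpoly.aeval P g)
    rw [map_zero, aeval_def, ← AlgHom.coe_toRingHom, hom_eval₂] at e
    simp only [AlgHom.coe_toRingHom, hg0, eval₂_at_zero] at e
    exact e
  let Fp := minpoly P a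
  have hFm : Fp.Monic := minpoly.monic haI
  let n := Fp.natDegree
  have hn : 0 < n := minpoly.natDegree_pos haI
  let Fz : (Fin d → ℂ) → ℂ[X] := fun z => Fp.map (MvPolynomial.eval z)
  have hFzdeg : ∀ z, (Fz z).natDegree = n := fun z => hFm.natDegree_map _
  have hF0 : Fp.eval₂ (MvPolynomial.eval z₀) 0 = 0 := by
    have e := congrArg φ₀ (minpoly.aeval P a)
    rw [map_zero, aeval_def, ← AlgHom.coe_toRingHom, hom_eval₂] at e
    have : (φ₀ : A →+* ℂ).comp (algebraMap P A) = MvPolynomial.eval z₀ := RingHom.ext hφ₀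
    rw [this] at e
    simpa [ha0] using e
  -- the index filter
  let T := Fin d → ℂ
  let F : Filter T := 𝓝 z₀ ⊓ 𝓟 {z | MvPolynomial.eval z h ≠ 0}
  have hF : F.NeBot := mem_closure_iff_nhdsWithin_neBot.1 ((dense_eval_ne_zero hh) z₀)
  -- choose a nearest root
  have hroot : ∀ z : T, ∃ r, (Fz z).eval r = 0 ∧
      ∀ r', (Fz z).eval r' = 0 → ‖r‖ ≤ ‖r'‖ := by
    intro z
    obtain ⟨r₀, hr₀⟩ := IsAlgClosed.exists_root (Fz z) (by
      rw [degree_eq_natDegree (hFm.map _).ne_zero, hFzdeg]; exact_mod_cast hn.ne')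
    have hne : (Fz z).roots.toFinset.Nonempty :=
      ⟨r₀, by simpa [mem_roots (hFm.map (MvPolynomial.eval z)).ne_zero] using And.intro (hFm.map (MvPolynomial.eval z)).ne_zero hr₀⟩
    obtain ⟨r, hr, hmin⟩ := Finset.exists_min_image _ (fun r => ‖r‖) hne
    rw [Multiset.mem_toFinset, mem_roots (hFm.map _).ne_zero] at hr
    exact ⟨r, hr, fun r' hr' => hmin r' (by
      rw [Multiset.mem_toFinset, mem_roots (hFm.map _).ne_zero]; exact hr')⟩
  choose root hroot0 hrootmin using hroot
  -- lift to `A`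
  have hlift : ∀ z : T, ∃ φ : A →ₐ[ℂ] ℂ,
      (∀ c : P, φ (ι c) = MvPolynomial.eval z c) ∧ φ a = root z := by
    intro z
    let ev : P[X] →ₐ[ℂ] A := (Polynomial.aeval a : P[X] →ₐ[P] A).restrictScalars ℂ
    let χ : P[X] →ₐ[ℂ] ℂ :=
      { eval₂RingHom (MvPolynomial.eval z) (root z) with
        commutes' := fun c => by
          show eval₂ (MvPolynomial.eval z) (root z) (C (MvPolynomial.C c)) = c
          simp }
    have hker : ∀ q : P[X], ev q = 0 → χ q = 0 := by
      intro q hq
      obtain ⟨q', rfl⟩ := minpoly.isIntegrallyClosed_dvd haI (p := q) hq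
      rw [map_mul]
      have : χ (minpoly P a) = (Fz z).eval (root z) := (eval_map _ _).symm
      rw [this, hroot0, zero_mul]
    let B : Subalgebra ℂ A := ev.range
    have : Algebra.IsIntegral B A := by
      refine ⟨fun b => ?_⟩
      obtain ⟨p, hp, hpb⟩ := Algebra.IsIntegral.isIntegral (R := P) b
      refine ⟨p.map ((ev.rangeRestrict : P[X] →+* B).comp C), hp.map _, ?_⟩
      rw [eval₂_map]
      have : (algebraMap B A).comp ((ev.rangeRestrict : P[X] →+* B).comp C) = algebraMap P A :=
        RingHom.ext fun c => (Polynomial.aeval_C a c)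
      rw [this]
      exact hpb
    have hsurj : Function.Surjective ev.rangeRestrict := AlgHom.rangeRestrict_surjective ev
    have hk : RingHom.ker ev.rangeRestrict.toRingHom ≤ RingHom.ker χ.toRingHom := fun q hq =>
      hker q (congrArg Subtype.val (RingHom.mem_ker.1 hq))
    let ψ : B →ₐ[ℂ] ℂ := AlgHom.liftOfSurjective ev.rangeRestrict hsurj χ hk
    have hψ : ∀ q, ψ (ev.rangeRestrict q) = χ q := fun q =>
      DFunLike.congr_fun (AlgHom.liftOfSurjective_comp _ hsurj χ hk) q
    obtain ⟨φ, hφ⟩ := exists_algHom_extend B ψ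
    refine ⟨φ, fun c => ?_, ?_⟩
    · have e := (hφ (ev.rangeRestrict (C c))).trans (hψ (C c))
      have e1 : (ev.rangeRestrict (C c) : A) = ι c := aeval_C a c
      rw [e1] at e
      rw [e]
      exact eval₂_C (MvPolynomial.eval z) (root z)
    · have e := (hφ (ev.rangeRestrict X)).trans (hψ X)
      have e1 : (ev.rangeRestrict X : A) = a := aeval_X a
      rw [e1] at e
      rw [e]
      exact eval₂_X (MvPolynomial.eval z) (root z)
  choose Φ hΦ hΦa using hlift
  have hT : Tendsto (fun z => (Φ z : A → ℂ)) F (𝓝 (φ₀ : A → ℂ)) := by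
    have hz : Tendsto (fun z : T => z) F (𝓝 z₀) := inf_le_left
    have hχ : ∀ c : P, Tendsto (fun z => Φ z (algebraMap P A c)) F (𝓝 (MvPolynomial.eval z₀ c)) := by
      intro c
      simp only [RingHom.algebraMap_toAlgebra]
      refine Tendsto.congr (fun z => (hΦ z c).symm) ?_
      exact ((MvPolynomial.continuous_eval c).tendsto z₀).comp hz
    refine tendsto_pi_of_unique_cluster _ _ (fun b =>
      eventually_bounded (Algebra.IsIntegral.isIntegral (R := P) b) (fun z => (Φ z : A →+* ℂ))
        (fun c => MvPolynomial.eval z₀ c) hχ) fun w hw => ?_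
    -- a cluster point is a character
    have hclosed : ∀ (S : Set (A → ℂ)), IsClosed S → (∀ z, (Φ z : A → ℂ) ∈ S) → w ∈ S :=
      fun S hS hall => hS.mem_of_mapClusterPt hw (Eventually.of_forall hall)
    let φw : A →ₐ[ℂ] ℂ :=
      { toFun := w
        map_one' := hclosed {v | v 1 = 1} (isClosed_eq (continuous_apply _) continuous_const)
          fun z => map_one (Φ z)
        map_mul' := fun x y => hclosed {v | v (x * y) = v x * v y}
          (isClosed_eq (continuous_apply _) ((continuous_apply x).mul (continuous_apply y)))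
          fun z => map_mul (Φ z) x y
        map_zero' := hclosed {v | v 0 = 0} (isClosed_eq (continuous_apply _) continuous_const)
          fun z => map_zero (Φ z)
        map_add' := fun x y => hclosed {v | v (x + y) = v x + v y}
          (isClosed_eq (continuous_apply _) ((continuous_apply x).add (continuous_apply y)))
          fun z => map_add (Φ z) x y
        commutes' := fun c => hclosed {v | v (algebraMap ℂ A c) = c}
          (isClosed_eq (continuous_apply _) continuous_const) fun z => (Φ z).commutes c }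
    have hbase : φw.comp ι = φ₀.comp ι := AlgHom.ext fun c => by
      show w (ι c) = φ₀ (ι c)
      rw [hφ₀]
      have h1 : MapClusterPt (w (ι c)) F (fun z => Φ z (ι c)) :=
        hw.continuousAt_comp (continuous_apply (ι c)).continuousAt
      exact eq_of_nhds_neBot (h1.clusterPt.mono (hχ c))
    have hwa : φw a = 0 := by
      have h1 : MapClusterPt (w a) F (fun z => Φ z a) :=
        hw.continuousAt_comp (continuous_apply a).continuousAt
      refine eq_of_nhds_neBot (h1.clusterPt.mono ?_)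
      show Tendsto (fun z => Φ z a) F (𝓝 0)
      simp only [hΦa]
      rw [Metric.tendsto_nhds]
      intro ε hε
      have hc : Tendsto (fun z : T => Fp.eval₂ (MvPolynomial.eval z) 0) F (𝓝 0) := by
        have hcont : Continuous (fun z : T => Fp.eval₂ (MvPolynomial.eval z) 0) := by
          simp only [eval₂_at_zero]
          exact MvPolynomial.continuous_eval _
        have := (hcont.tendsto z₀).comp hz
        rw [hF0] at this
        exact this
      refine (Metric.tendsto_nhds.1 hc (ε ^ n) (pow_pos hε n)).mono fun z hzε => ?_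
      have h2 : ‖(Fz z).eval 0‖ < ε ^ (Fz z).natDegree := by
        rw [hFzdeg, eval_map]
        simpa using hzε
      obtain ⟨r, hr, hrε⟩ := exists_root_near (hFm.map _) (by rw [hFzdeg]; exact hn) hε.le h2
      have hr' : ‖r‖ < ε := by simpa using hrε
      simpa using (hrootmin z r hr).trans_lt hr'
    by_contra hne
    have : φw ≠ φ₀ := fun e => hne (congrArg DFunLike.coe e)
    exact ha1 φw hbase this hwa
  refine mem_closure_of_tendsto hT ?_
  have hne : ∀ᶠ z in F, MvPolynomial.eval z h ≠ 0 := mem_inf_of_right (mem_principal_self _)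
  exact hne.mono fun z hz => ⟨Φ z, hgh (Φ z) (by rw [hΦ]; exact hz), rfl⟩

end Groth.Agent.Lib.AnPts
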