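import Groth.Agent.Lib.AnPts.Pullback
import Mathlib.Topology.SeparatedMap

/-!
# Separatedness on ℂ-points
-/

open AlgebraicGeometry CategoryTheory TopologicalSpace Opposite Topology

noncomputable section

namespace Groth.Agent.Lib.AnPts

open An

variable {X : Scheme.{0}} [X.Over SC] [LocallyOfFiniteType (X ↘ SC)]
variable {Y : Scheme.{0}} [Y.Over SC] [LocallyOfFiniteType (Y ↘ SC)]

theorem isSeparated_iff (f : X ⟶ Y) [f.IsOver SC] :
    IsSeparated f ↔ IsSeparatedMap (Pts.map f) := by
  have := lft_of_over f
  have : LocallyOfFiniteType (Limits.pullback f f ↘ SC) :=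
    show LocallyOfFiniteType (Limits.pullback.fst f f ≫ X ↘ SC) from inferInstance
  have : (Limits.pullback.diagonal f).IsOver SC := ⟨by
    show Limits.pullback.diagonal f ≫ Limits.pullback.fst f f ≫ X ↘ SC = X ↘ SC
    rw [← Category.assoc, Limits.pullback.diagonal_fst, Category.id_comp]⟩
  let h : Pts (Limits.pullback f f) ≃ₜ
      {q : Pts X × Pts X // Pts.map f q.1 = Pts.map f q.2} := (isHomeomorph_pbPair f f).homeomorph _
  have hd : h ⁻¹' (Pts.map f).pullbackDiagonal = Pts.pt ⁻¹' Set.range (Limits.pullback.diagonal f) := by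
    rw [← range_map_eq]
    ext z
    constructor
    · intro hz
      exact ⟨Pts.map (Limits.pullback.fst f f) z, Subtype.ext (Limits.pullback.hom_ext
        (by simp) (by simpa using congrArg Subtype.val (show
          Pts.map (Limits.pullback.fst f f) z = Pts.map (Limits.pullback.snd f f) z from hz)))⟩
    · rintro ⟨x, rfl⟩
      show Pts.map (Limits.pullback.fst f f) _ = Pts.map (Limits.pullback.snd f f) _
      exact Subtype.ext (by simp)
  rw [isSeparatedMap_iff_isClosed_diagonal]
  have hlc : IsLocallyClosed (Set.range (Limits.pullback.diagonal f)) :=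
    (Limits.pullback.diagonal f).isLocallyClosed_range
  rw [← h.isClosed_preimage, hd, ← isClosed_iff_pts (isLocallyConstructible_of_isLocallyClosed hlc)]
  exact ⟨fun _ => (Limits.pullback.diagonal f).isClosedEmbedding.isClosed_range,
    fun hc => ⟨IsClosedImmersion.of_isPreimmersion _ hc⟩⟩

instance subsingleton_pts_SC : Subsingleton (Pts SC) :=
  ⟨fun a b => Subtype.ext (by
    have ha := a.2; have hb := b.2
    simp only [show (SC ↘ SC) = 𝟙 SC from rfl, Category.comp_id] at ha hb
    exact ha.trans hb.symm)⟩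

theorem isSeparated_iff_t2Space : IsSeparated (X ↘ SC) ↔ T2Space (Pts X) := by
  have : (X ↘ SC).IsOver SC := ⟨Category.comp_id _⟩
  have : LocallyOfFiniteType (SC ↘ SC) := show LocallyOfFiniteType (𝟙 SC) from inferInstance
  rw [isSeparated_iff (X ↘ SC)]
  let pSC : Pts SC := ⟨𝟙 SC, Category.comp_id _⟩
  rw [t2space_iff_isSeparatedMap pSC]
  rw [show Pts.map (X ↘ SC) = fun _ : Pts X => pSC from funext fun _ => Subsingleton.elim _ _]

end Groth.Agent.Lib.AnPts
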