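import Groth.Agent.Lib.AnPts.ProperConverse
import Groth.Agent.Lib.AnPts.Separated
import Mathlib.AlgebraicGeometry.ZariskisMainTheorem
import Mathlib.AlgebraicGeometry.Morphisms.Proper

/-!
# Proper and finite morphisms on ℂ-points
-/

open AlgebraicGeometry CategoryTheory TopologicalSpace Opposite Topology

noncomputable section

namespace Groth.Agent.Lib.AnPts

open An

variable {X : Scheme.{0}} [X.Over SC] [LocallyOfFiniteType (X ↘ SC)]
variable {Y : Scheme.{0}} [Y.Over SC] [LocallyOfFiniteType (Y ↘ SC)]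

theorem isProper_iff (f : X ⟶ Y) [f.IsOver SC] [QuasiCompact f] :
    IsProper f ↔ IsProperMap (Pts.map f) ∧ IsSeparatedMap (Pts.map f) := by
  refine ⟨fun _ => ⟨isProperMap_map f, (isSeparated_iff f).1 inferInstance⟩, fun h => ?_⟩
  have := lft_of_over f
  have := universallyClosed_of_isProperMap f h.1
  have := (isSeparated_iff f).2 h.2
  exact {}

lemma finite_preimage_map (f : X ⟶ Y) [f.IsOver SC] [IsFinite f] (y : Pts Y) :
    (Pts.map f ⁻¹' {y}).Finite := by
  refine Set.Finite.of_finite_image (f := Pts.pt) ?_ pt_injective.injOn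
  refine (f.finite_preimage_singleton y.pt).subset ?_
  rintro _ ⟨x, rfl, rfl⟩
  exact (Pts.pt_map f x).symm

lemma locallyQuasiFinite_of_finite_pts (f : X ⟶ Y) [f.IsOver SC]
    (h : ∀ y : Pts Y, (Pts.map f ⁻¹' {y}).Finite) : LocallyQuasiFinite f := by
  have := lft_of_over f
  have := jacobsonSpace_of_lft X
  rw [← Scheme.Hom.quasiFiniteLocus_eq_top_iff]
  by_contra hne
  have hne' : ((f.quasiFiniteLocus : Set ↥X)ᶜ).Nonempty :=
    Set.nonempty_compl.2 fun e => hne (TopologicalSpace.Opens.ext e)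
  obtain ⟨x, hx⟩ := exists_pt_mem_locallyClosed
    f.quasiFiniteLocus.2.isClosed_compl.isLocallyClosed hne'
  refine hx (Scheme.Hom.mem_quasiFiniteLocus.2 ?_)
  rw [Scheme.Hom.quasiFiniteAt_iff_isOpen_singleton_asFiber]
  let y := Pts.map f x
  have hy : f x.pt = y.pt := (Pts.pt_map f x).symm
  have hc : IsClosed (f ⁻¹' {f x.pt} : Set ↥X) := by
    rw [hy]; exact (isClosed_pt y).preimage f.continuous
  have : JacobsonSpace (f ⁻¹' {f x.pt} : Set ↥X) :=
    JacobsonSpace.of_isClosedEmbedding hc.isClosedEmbedding_subtypeVal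
  have : DiscreteTopology (f ⁻¹' {f x.pt} : Set ↥X) := by
    refine JacobsonSpace.discreteTopology ?_
    refine Set.Finite.of_finite_image (f := Subtype.val) ?_ Subtype.val_injective.injOn
    refine ((h y).image Pts.pt).subset ?_
    rintro _ ⟨z, hz, rfl⟩
    rw [← hc.isClosedEmbedding_subtypeVal.preimage_closedPoints] at hz
    obtain ⟨x', hx'⟩ := exists_pt_eq (z := z.1) hz
    refine ⟨x', pt_injective ?_, hx'⟩
    rw [Pts.pt_map, hx', ← hy]
    exact z.2
  rw [Scheme.Hom.asFiber, ← (f.fiberHomeo (f x.pt)).isOpen_image, Set.image_singleton,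
    Homeomorph.apply_symm_apply]
  exact isOpen_discrete _

theorem isFinite_iff (f : X ⟶ Y) [f.IsOver SC] [QuasiCompact f] :
    IsFinite f ↔ IsProperMap (Pts.map f) ∧ IsSeparatedMap (Pts.map f) ∧
      ∀ y : Pts Y, (Pts.map f ⁻¹' {y}).Finite := by
  rw [← and_assoc, ← isProper_iff]
  refine ⟨fun _ => ⟨inferInstance, finite_preimage_map f⟩, fun ⟨h, h'⟩ => ?_⟩
  have := locallyQuasiFinite_of_finite_pts f h'
  exact IsFinite.of_isProper_of_locallyQuasiFinite f

theorem isProper_iff_compactSpace [QuasiCompact (X ↘ SC)] :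
    IsProper (X ↘ SC) ↔ CompactSpace (Pts X) ∧ T2Space (Pts X) := by
  have : (X ↘ SC).IsOver SC := ⟨Category.comp_id _⟩
  have : LocallyOfFiniteType (SC ↘ SC) := show LocallyOfFiniteType (𝟙 SC) from inferInstance
  rw [isProper_iff (X ↘ SC), ← isSeparated_iff (X ↘ SC), isSeparated_iff_t2Space]
  let pSC : Pts SC := ⟨𝟙 SC, Category.comp_id _⟩
  refine and_congr ⟨fun h => ⟨?_⟩, fun h => ?_⟩ Iff.rfl
  · have := h.isCompact_preimage (isCompact_singleton (x := pSC))
    rwa [show Pts.map (X ↘ SC) ⁻¹' {pSC} = Set.univ from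
      Set.eq_univ_of_forall fun _ => Subsingleton.elim (α := Pts SC) _ _] at this
  · refine isProperMap_iff_ultrafilter.2 ⟨Pts.continuous_map _, fun 𝒰 y _ => ?_⟩
    obtain ⟨x, -, hx⟩ := isCompact_univ.ultrafilter_le_nhds 𝒰 (by simp)
    exact ⟨x, Subsingleton.elim _ _, hx⟩

end Groth.Agent.Lib.AnPts
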