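import Groth.Agent.Lib.AnPts.Etale
import Groth.Agent.Lib.AnPts.Proper
import Mathlib.Topology.Covering.Basic

/-!
# Finite étale morphisms induce covering maps on ℂ-points
-/

open AlgebraicGeometry CategoryTheory TopologicalSpace Opposite Topology

noncomputable section

namespace Groth.Agent.Lib.AnPts

open An

variable {X Y : Scheme.{0}} [X.Over SC] [LocallyOfFiniteType (X ↘ SC)]
  [Y.Over SC] [LocallyOfFiniteType (Y ↘ SC)] (f : X ⟶ Y) [f.IsOver SC] [IsFinite f] [Etale f]

theorem isCoveringMap_map : IsCoveringMap (Pts.map f) := by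
  intro y
  -- work over an affine neighbourhood, where everything is separated
  obtain ⟨V, hV, hyV, -⟩ :=
    exists_isAffineOpen_mem_and_subset (U := ⊤) (x := y.pt) (Opens.mem_top _)
  let S : Set (Pts Y) := Pts.pt ⁻¹' (V : Set ↥Y)
  have hS : IsOpen S := Pts.isOpen_preimage_pt V
  have hT2 : T2Space (Pts.map f ⁻¹' S : Set (Pts X)) := by
    have : IsAffine (f ⁻¹ᵁ V).toScheme := hV.preimage f
    have : LocallyOfFiniteType ((f ⁻¹ᵁ V).toScheme ↘ SC) :=
      show LocallyOfFiniteType ((f ⁻¹ᵁ V).ι ≫ X ↘ SC) from inferInstance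
    have : IsSeparated ((f ⁻¹ᵁ V).toScheme ↘ SC) := IsSeparated.of_isAffineHom _
    have h2 : T2Space (Pts (f ⁻¹ᵁ V).toScheme) := isSeparated_iff_t2Space.1 this
    have hr : Set.range (Pts.map (f ⁻¹ᵁ V).ι) = Pts.map f ⁻¹' S := by
      rw [range_map_ι]
      ext z
      show f z.pt ∈ V ↔ (Pts.map f z).pt ∈ V
      rw [Pts.pt_map]
    rw [← hr]
    exact (isOpenEmbedding_map_ι (f ⁻¹ᵁ V)).isEmbedding.toHomeomorph.t2Space
  have hclosed : IsClosedMap (S.restrictPreimage (Pts.map f)) :=
    (isProperMap_map f).isClosedMap.restrictPreimage S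
  have hlh : IsLocalHomeomorph (S.restrictPreimage (Pts.map f)) := by
    have h1 : IsLocalHomeomorph (Subtype.val ∘ S.restrictPreimage (Pts.map f)) :=
      (isLocalHomeomorph_map f).comp
        (hS.preimage (Pts.continuous_map f)).isOpenEmbedding_subtypeVal.isLocalHomeomorph
    exact h1.of_comp hS.isOpenEmbedding_subtypeVal.isLocalHomeomorph
      ((Pts.continuous_map f).restrictPreimage)
  have hcov : IsCoveringMapOn (S.restrictPreimage (Pts.map f)) Set.univ := by
    refine hclosed.isCoveringMapOn_of_isLocalHomeomorphOn (fun z _ => ?_) (hlh.isLocalHomeomorphOn)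
    refine Set.Finite.of_finite_image (f := Subtype.val) ?_ Subtype.val_injective.injOn
    refine (finite_preimage_map f z.1).subset ?_
    rintro _ ⟨a, ha, rfl⟩
    exact congrArg Subtype.val ha
  have hon : IsCoveringMapOn (Pts.map f) S :=
    IsCoveringMapOn.of_isCoveringMap_restrictPreimage S hS (hS.preimage (Pts.continuous_map f))
      (isCoveringMap_iff_isCoveringMapOn_univ.2 hcov)
  exact hon y hyV

end Groth.Agent.Lib.AnPts
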