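import Groth.Agent.Lib.AnPts.ProperMap
import Mathlib.RingTheory.Localization.Away.Basic

/-!
# A morphism whose map on ℂ-points is proper is universally closed

The valuative criterion is checked on a finitely generated piece of the valuation ring: a point of
it at which the inverse of a chart function vanishes is a limit of points where that chart function
tends to infinity, which properness forbids.
-/

open AlgebraicGeometry CategoryTheory TopologicalSpace Opposite Topology Filter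

noncomputable section

namespace Groth.Agent.Lib.AnPts

open An

variable {X : Scheme.{0}} [X.Over SC] {Y : Scheme.{0}} [Y.Over SC]

lemma le_preimage_top (U : X.Opens) : U ≤ (X ↘ SC) ⁻¹ᵁ ⊤ := fun _ _ => trivial

/-- The constants in the sections over an open. -/
def strU (U : X.Opens) : ℂ →+* Γ(X, U) :=
  ((X ↘ SC).appLE ⊤ U (le_preimage_top U)).hom.comp (Scheme.ΓSpecIso (CommRingCat.of ℂ)).inv.hom

lemma strU_comp (f : X ⟶ Y) [f.IsOver SC] {V : Y.Opens} {U : X.Opens} (e : U ≤ f ⁻¹ᵁ V) :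
    (f.appLE V U e).hom.comp (strU V) = strU U := by
  unfold strU
  rw [← RingHom.comp_assoc, ← CommRingCat.hom_comp, Scheme.Hom.appLE_comp_appLE]
  congr 2
  congr 1
  exact comp_over f SC

lemma fromSpec_over {U : X.Opens} (hU : IsAffineOpen U) :
    hU.fromSpec ≫ (X ↘ SC) = Spec.map (CommRingCat.ofHom (strU U)) := by
  have e : CommRingCat.ofHom (strU U) =
      (Scheme.ΓSpecIso (CommRingCat.of ℂ)).inv ≫ (X ↘ SC).appLE ⊤ U (le_preimage_top U) := rfl
  rw [← (isAffineOpen_top SC).SpecMap_appLE_fromSpec (X ↘ SC) hU (le_preimage_top U), IsAffineOpen.fromSpec_top,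
    Scheme.isoSpec_Spec_inv, e, Spec.map_comp]

lemma exists_pts_of_chart {U : X.Opens} (hU : IsAffineOpen U) (χ : Γ(X, U) →+* ℂ)
    (hχ : ∀ c, χ (strU U c) = c) : ∃ (x : Pts X) (h : x.pt ∈ U), ∀ b, x.ev U h b = χ b := by
  let x₁ : SC ⟶ X := Spec.map (CommRingCat.ofHom χ) ≫ hU.fromSpec
  have hx : x₁ ≫ (X ↘ SC) = 𝟙 SC := by
    simp only [x₁, Category.assoc, fromSpec_over hU]
    rw [← Spec.map_comp, ← Spec.map_id]
    congr 1
    ext c
    exact hχ c
  let x : Pts X := ⟨x₁, hx⟩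
  have h : x.pt ∈ U := by
    have h0 : x₁ An.cpt ∈ Set.range hU.fromSpec :=
      ⟨Spec.map (CommRingCat.ofHom χ) An.cpt, (Scheme.Hom.comp_apply _ _ _).symm⟩
    rwa [hU.range_fromSpec] at h0
  refine ⟨x, h, fun b => ?_⟩
  have e : Spec.map (CommRingCat.ofHom (evHom x U h)) ≫ hU.fromSpec =
      Spec.map (CommRingCat.ofHom χ) ≫ hU.fromSpec := (point_eq_fromSpec x hU h).symm
  exact DFunLike.congr_fun
    (congrArg CommRingCat.Hom.hom (Spec.map_injective ((cancel_mono hU.fromSpec).1 e))) b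

lemma ev_strU (x : Pts X) (U : X.Opens) (h : x.pt ∈ U) (c : ℂ) : x.ev U h (strU U c) = c := by
  have e : strU U = (X.presheaf.map (homOfLE (le_top : U ≤ ⊤)).op).hom.comp (strHom X) := by
    rfl
  rw [e]
  exact (ev_res_top x U h _).trans (evTop_strHom x c)

/-- Convergence may be tested on the sections over an affine open. -/
lemma tendsto_of_tendsto_ev {T : Type} {F : Filter T} {u : T → Pts X} {y : Pts X} {V : X.Opens}
    (hV : IsAffineOpen V) (hy : y.pt ∈ V) (hev : ∀ᶠ t in F, (u t).pt ∈ V)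
    (h : ∀ b : Γ(X, V), Tendsto (evExt u V b) F (𝓝 (y.ev V hy b))) : Tendsto u F (𝓝 y) := by
  rw [tendsto_nhds_generateFrom_iff]
  rintro _ ⟨U, s, A, hA, rfl⟩ ⟨hyU, hyA⟩
  obtain ⟨g, hgU, hyg⟩ := hV.exists_basicOpen_le (V := U) ⟨y.pt, hyU⟩ hy
  let s' : Γ(X, X.basicOpen g) := X.presheaf.map (homOfLE hgU).op s
  have := hV.isLocalization_basicOpen g
  obtain ⟨⟨a, ⟨_, n, rfl⟩⟩, ha⟩ := IsLocalization.surj (Submonoid.powers g) s'
  have key : ∀ (z : Pts X) (hz : z.pt ∈ X.basicOpen g),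
      z.ev U (hgU hz) s * z.ev V (X.basicOpen_le g hz) g ^ n = z.ev V (X.basicOpen_le g hz) a := by
    intro z hz
    have h2 := congrArg (evHom z (X.basicOpen g) hz) ha
    simp only [map_mul] at h2
    have h3 : ∀ b : Γ(X, V), evHom z (X.basicOpen g) hz (algebraMap Γ(X, V) Γ(X, X.basicOpen g) b) =
        z.ev V (X.basicOpen_le g hz) b := fun b => ev_map_res z (X.basicOpen_le g) hz b
    rw [h3, h3, ev_pow] at h2
    rwa [show evHom z (X.basicOpen g) hz s' = z.ev U (hgU hz) s from ev_map_res z hgU hz s] at h2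
  have hg0 : y.ev V hy g ≠ 0 := (pt_mem_basicOpen_iff y hy g).1 hyg
  have hlim : Tendsto (fun t => evExt u V a t / evExt u V g t ^ n) F (𝓝 (y.ev U hyU s)) := by
    have e : y.ev U hyU s = y.ev V hy a / y.ev V hy g ^ n := by
      rw [← key y hyg, mul_div_cancel_right₀ _ (pow_ne_zero n hg0)]
    rw [e]
    exact (h a).div ((h g).pow n) (pow_ne_zero n hg0)
  have h1 : ∀ᶠ t in F, evExt u V g t ≠ 0 := (h g).eventually_ne hg0
  show ∀ᶠ t in F, u t ∈ Pts.basicSet U s A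
  filter_upwards [hev, h1, hlim (hA.mem_nhds hyA)] with t ht ht0 htA
  rw [evExt_of_mem u ht] at ht0
  have htg : (u t).pt ∈ X.basicOpen g := (pt_mem_basicOpen_iff _ ht g).2 ht0
  refine ⟨hgU htg, ?_⟩
  have htA' : evExt u V a t / evExt u V g t ^ n ∈ A := htA
  rwa [evExt_of_mem u ht, evExt_of_mem u ht, ← key (u t) htg,
    mul_div_cancel_right₀ _ (pow_ne_zero n ht0)] at htA'

lemma finiteType_strU [LocallyOfFiniteType (X ↘ SC)] {U : X.Opens} (hU : IsAffineOpen U) :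
    (strU U).FiniteType :=
  RingHom.FiniteType.comp ((X ↘ SC).finiteType_appLE (isAffineOpen_top SC) hU (le_preimage_top U))
    (RingHom.FiniteType.of_surjective _
      (Scheme.ΓSpecIso (CommRingCat.of ℂ)).commRingCatIsoToRingEquiv.symm.surjective)

lemma exists_algHom_of_ne_top {A : Type} [CommRing A] [Algebra ℂ A] [Algebra.FiniteType ℂ A]
    {I : Ideal A} (hI : I ≠ ⊤) : ∃ φ : A →ₐ[ℂ] ℂ, ∀ a ∈ I, φ a = 0 := by
  obtain ⟨M, hM, hIM⟩ := Ideal.exists_le_maximal I hI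
  let := Ideal.Quotient.field M
  have hbij : Function.Bijective (algebraMap ℂ (A ⧸ M)) := by
    have : Module.Finite ℂ (A ⧸ M) := finite_of_finite_type_of_isJacobsonRing ℂ (A ⧸ M)
    exact IsAlgClosed.algebraMap_bijective_of_isIntegral
  let e := AlgEquiv.ofBijective (Algebra.ofId ℂ (A ⧸ M)) hbij
  refine ⟨(e.symm : (A ⧸ M) →ₐ[ℂ] ℂ).comp (Ideal.Quotient.mkₐ ℂ M), fun a ha => ?_⟩
  show e.symm (Ideal.Quotient.mk M a) = 0
  rw [Ideal.Quotient.eq_zero_iff_mem.2 (hIM ha), map_zero]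

/-- A quasi-compact morphism with proper map on ℂ-points is universally closed. -/
theorem universallyClosed_of_isProperMap [LocallyOfFiniteType (X ↘ SC)]
    [LocallyOfFiniteType (Y ↘ SC)] (f : X ⟶ Y) [f.IsOver SC] [QuasiCompact f]
    (hf : IsProperMap (Pts.map f)) : UniversallyClosed f := by
  classical
  refine UniversallyClosed.of_valuativeCriterion f fun S => ?_
  let pt₀ : ↥(Spec (CommRingCat.of S.K)) := default
  let cR : ↥(Spec (CommRingCat.of S.R)) := IsLocalRing.closedPoint S.R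
  obtain ⟨V, hV, hyV, -⟩ :=
    exists_isAffineOpen_mem_and_subset (U := ⊤) (x := S.i₂ cR) (Opens.mem_top _)
  have hrangeV : Set.range S.i₂ ⊆ Set.range hV.fromSpec := by
    rw [hV.range_fromSpec]
    rintro _ ⟨p, rfl⟩
    exact ((IsLocalRing.specializes_closedPoint p).map S.i₂.continuous).mem_open V.2 hyV
  let ψ : Γ(Y, V) →+* S.R := (Spec.preimage (IsOpenImmersion.lift hV.fromSpec S.i₂ hrangeV)).hom
  have hψ : Spec.map (CommRingCat.ofHom ψ) ≫ hV.fromSpec = S.i₂ := by simp [ψ]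
  let η : X := S.i₁ pt₀
  have hηV : η ∈ f ⁻¹ᵁ V := by
    show f (S.i₁ pt₀) ∈ V
    rw [← Scheme.Hom.comp_apply, S.commSq.w, Scheme.Hom.comp_apply]
    have h0 : S.i₂ (Spec.map (CommRingCat.ofHom (algebraMap S.R S.K)) pt₀) ∈
        Set.range hV.fromSpec := hrangeV ⟨_, rfl⟩
    rwa [hV.range_fromSpec] at h0
  -- the charts
  have hchart : ∀ (W : X.Opens) (hW : IsAffineOpen W), η ∈ W → ∃ φ : Γ(X, W) →+* S.K,
      Spec.map (CommRingCat.ofHom φ) ≫ hW.fromSpec = S.i₁ := by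
    intro W hW hηW
    have hr : Set.range S.i₁ ⊆ Set.range hW.fromSpec := by
      rw [hW.range_fromSpec]
      rintro _ ⟨p, rfl⟩
      rw [Subsingleton.elim p pt₀]
      exact hηW
    exact ⟨(Spec.preimage (IsOpenImmersion.lift hW.fromSpec S.i₁ hr)).hom, by simp⟩
  have hcomm : ∀ (W : X.Opens) (hW : IsAffineOpen W) (e : W ≤ f ⁻¹ᵁ V) (φ : Γ(X, W) →+* S.K),
      Spec.map (CommRingCat.ofHom φ) ≫ hW.fromSpec = S.i₁ →
        φ.comp (f.appLE V W e).hom = (algebraMap S.R S.K).comp ψ := by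
    intro W hW e φ hφ
    have := S.commSq.w
    rw [← hφ, ← hψ, Category.assoc, ← hV.SpecMap_appLE_fromSpec f hW e, ← Category.assoc,
      ← Category.assoc, ← Spec.map_comp, ← Spec.map_comp] at this
    exact congrArg CommRingCat.Hom.hom (Spec.map_injective ((cancel_mono hV.fromSpec).1 this))
  obtain ⟨Sset, hSf, hS⟩ := isCompact_and_isOpen_iff_finite_and_eq_biUnion_affineOpens.mp
    (show IsCompact ((f ⁻¹ᵁ V : X.Opens) : Set X) ∧ IsOpen ((f ⁻¹ᵁ V : X.Opens) : Set X) from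
      ⟨f.isCompact_preimage hV.isCompact, (f ⁻¹ᵁ V).2⟩)
  let S₁ : Set X.affineOpens := {W ∈ Sset | η ∈ (W : X.Opens)}
  have hS₁f : S₁.Finite := hSf.subset fun W hW => hW.1
  have hWV : ∀ W ∈ S₁, (W : X.Opens) ≤ f ⁻¹ᵁ V := fun W hW z hz => by
    show z ∈ ((f ⁻¹ᵁ V : X.Opens) : Set X)
    rw [hS]
    exact Set.mem_iUnion₂.2 ⟨W, hW.1, hz⟩
  by_cases hgood : ∃ W ∈ S₁, ∃ φ : Γ(X, (W : X.Opens)) →+* S.K,
      Spec.map (CommRingCat.ofHom φ) ≫ W.2.fromSpec = S.i₁ ∧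
        ∀ b, φ b ∈ (algebraMap S.R S.K).range
  · obtain ⟨W, hW, φ, hφ, hran⟩ := hgood
    have hinj := IsFractionRing.injective S.R S.K
    let e := RingEquiv.ofBijective (algebraMap S.R S.K).rangeRestrict
      ⟨fun a b h => hinj (congrArg Subtype.val h), RingHom.rangeRestrict_surjective _⟩
    let θ : Γ(X, (W : X.Opens)) →+* S.R := e.symm.toRingHom.comp (φ.codRestrict _ hran)
    have hθ : (algebraMap S.R S.K).comp θ = φ := by
      ext b
      exact congrArg Subtype.val (e.apply_symm_apply (⟨φ b, hran b⟩ : (algebraMap S.R S.K).range))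
    refine ⟨⟨⟨Spec.map (CommRingCat.ofHom θ) ≫ W.2.fromSpec, ?_, ?_⟩⟩⟩
    · rw [← Category.assoc, ← Spec.map_comp, ← CommRingCat.ofHom_comp, hθ, hφ]
    · rw [Category.assoc, ← hV.SpecMap_appLE_fromSpec f W.2 (hWV W hW), ← Category.assoc,
        ← Spec.map_comp, ← hψ]
      congr 2
      ext b
      refine hinj ?_
      have := DFunLike.congr_fun (hcomm W W.2 (hWV W hW) φ hφ) b
      rw [← hθ] at this
      exact this
  exfalso
  push Not at hgood
  -- a common chart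
  have hIopen : IsOpen (⋂ W ∈ S₁, ((W : X.Opens) : Set X)) :=
    hS₁f.isOpen_biInter fun W _ => W.1.2
  obtain ⟨W₀, hW₀, hηW₀, hW₀sub⟩ := exists_isAffineOpen_mem_and_subset (x := η)
    (U := (⟨(⋂ W ∈ S₁, ((W : X.Opens) : Set X)) ∩ (f ⁻¹ᵁ V : X.Opens),
      hIopen.inter (f ⁻¹ᵁ V).2⟩ : X.Opens))
    ⟨Set.mem_iInter₂.2 fun W hW => hW.2, hηV⟩
  have hW₀V : W₀ ≤ f ⁻¹ᵁ V := fun z hz => (hW₀sub hz).2
  have hW₀W : ∀ W ∈ S₁, W₀ ≤ (W : X.Opens) := fun W hW z hz =>
    Set.mem_iInter₂.1 (hW₀sub hz).1 W hW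
  obtain ⟨φ₀, hφ₀⟩ := hchart W₀ hW₀ hηW₀
  have hbad : ∀ W : S₁, ∃ b : Γ(X, (W : X.affineOpens).1),
      φ₀ (X.presheaf.map (homOfLE (hW₀W W W.2)).op b) ∉ (algebraMap S.R S.K).range := by
    rintro ⟨W, hW⟩
    obtain ⟨φ, hφ⟩ := hchart W W.2 hW.2
    obtain ⟨b, hb⟩ := hgood W hW φ hφ
    refine ⟨b, ?_⟩
    have hWa : IsAffineOpen (W : X.Opens) := W.2
    have : φ₀.comp (X.presheaf.map (homOfLE (hW₀W W hW)).op).hom = φ := by
      have e2 : Spec.map (CommRingCat.ofHom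
          (φ₀.comp (X.presheaf.map (homOfLE (hW₀W W hW)).op).hom)) ≫ hWa.fromSpec =
          Spec.map (CommRingCat.ofHom φ) ≫ hWa.fromSpec := by
        rw [hφ, CommRingCat.ofHom_comp, Spec.map_comp, Category.assoc, CommRingCat.ofHom_hom,
          hWa.map_fromSpec hW₀, hφ₀]
      exact congrArg CommRingCat.Hom.hom (Spec.map_injective ((cancel_mono hWa.fromSpec).1 e2))
    rw [← this] at hb
    exact hb
  choose bW hbW using hbad
  have hinv : ∀ W : S₁, ∃ c : S.R, c ∈ IsLocalRing.maximalIdeal S.R ∧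
      φ₀ (X.presheaf.map (homOfLE (hW₀W W W.2)).op (bW W)) * algebraMap S.R S.K c = 1 := by
    intro W
    set k := φ₀ (X.presheaf.map (homOfLE (hW₀W W W.2)).op (bW W))
    rcases ValuationRing.isInteger_or_isInteger S.R k with ⟨r, hr⟩ | ⟨r, hr⟩
    · exact absurd ⟨r, hr⟩ (hbW W)
    have hk : k ≠ 0 := fun h => hbW W ⟨0, by rw [map_zero]; exact h.symm⟩
    refine ⟨r, fun hu => hbW W ?_, by rw [hr]; exact mul_inv_cancel₀ hk⟩
    refine ⟨(hu.unit⁻¹ : S.Rˣ), ?_⟩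
    rw [map_units_inv, IsUnit.unit_spec, hr, inv_inv]
  choose cW hcW hcW1 using hinv
  -- the constants
  let : Algebra ℂ S.R := (ψ.comp (strU V)).toAlgebra
  let : Algebra ℂ Γ(X, W₀) := (strU W₀).toAlgebra
  let : Algebra ℂ Γ(Y, V) := (strU V).toAlgebra
  have hκ : ∀ c : ℂ, φ₀ (strU W₀ c) = algebraMap S.R S.K (algebraMap ℂ S.R c) := by
    intro c
    rw [← strU_comp f hW₀V]
    exact DFunLike.congr_fun (hcomm W₀ hW₀ hW₀V φ₀ hφ₀) (strU V c)
  have hftV : Algebra.FiniteType ℂ Γ(Y, V) := finiteType_strU hV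
  have hftW : Algebra.FiniteType ℂ Γ(X, W₀) := finiteType_strU hW₀
  obtain ⟨sV, hsV⟩ := hftV.out
  obtain ⟨sW, hsW⟩ := hftW.out
  choose num den hden hnd using fun k : S.K => IsFractionRing.div_surjective S.R k
  have : Fintype S₁ := hS₁f.fintype
  let gens : Finset S.R := sV.image ψ ∪ sW.image (fun g => num (φ₀ g)) ∪
    sW.image (fun g => den (φ₀ g)) ∪ Finset.univ.image cW
  let R' : Subalgebra ℂ S.R := Algebra.adjoin ℂ (gens : Set S.R)
  have hmem : ∀ r ∈ gens, r ∈ R' := fun r hr => Algebra.subset_adjoin hr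
  have hψR' : ∀ b, ψ b ∈ R' := by
    intro b
    have hb : b ∈ Algebra.adjoin ℂ (sV : Set Γ(Y, V)) := hsV ▸ Algebra.mem_top
    induction hb using Algebra.adjoin_induction with
    | mem x hx => exact hmem _ (by simp only [gens, Finset.mem_union, Finset.mem_image]; exact Or.inl (Or.inl (Or.inl ⟨x, hx, rfl⟩)))
    | algebraMap c => exact R'.algebraMap_mem c
    | add x y _ _ h1 h2 => rw [map_add]; exact R'.add_mem h1 h2
    | mul x y _ _ h1 h2 => rw [map_mul]; exact R'.mul_mem h1 h2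
  have hcR' : ∀ W, cW W ∈ R' := fun W => hmem _ (by simp [gens])
  have hnum : ∀ g ∈ sW, num (φ₀ g) ∈ R' := fun g hg => hmem _ (by
    simp only [gens, Finset.mem_union, Finset.mem_image]
    exact Or.inl (Or.inl (Or.inr ⟨g, hg, rfl⟩)))
  have hdenR : ∀ g ∈ sW, den (φ₀ g) ∈ R' := fun g hg => hmem _ (by
    simp only [gens, Finset.mem_union, Finset.mem_image]
    exact Or.inl (Or.inr ⟨g, hg, rfl⟩))
  let δ : R' := ∏ g ∈ sW.attach, ⟨den (φ₀ g), hdenR g g.2⟩
  have hδ : δ ≠ 0 := Finset.prod_ne_zero_iff.2 fun g _ h =>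
    nonZeroDivisors.ne_zero (hden (φ₀ g)) (congrArg Subtype.val h)
  have hft : Algebra.FiniteType ℂ R' := R'.fg_iff_finiteType.1 ⟨gens, rfl⟩
  obtain ⟨ψ₀, hψ₀⟩ := exists_algHom_of_ne_top
    (I := (IsLocalRing.maximalIdeal S.R).comap R'.val)
    (Ideal.comap_ne_top _ (IsLocalRing.maximalIdeal.isMaximal S.R).ne_top)
  let T := {φ : R' →ₐ[ℂ] ℂ // φ δ ≠ 0}
  let F : Filter T := Filter.comap (fun φ : T => ((φ : R' →ₐ[ℂ] ℂ) : R' → ℂ)) (𝓝 (ψ₀ : R' → ℂ))
  have hFne : F.NeBot := by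
    refine Filter.comap_neBot fun s hs => ?_
    obtain ⟨_, hv, ⟨φ, hφ, rfl⟩⟩ := mem_closure_iff_nhds.1 (mem_closure_ne_zero hδ ψ₀) s hs
    exact ⟨⟨φ, hφ⟩, hv⟩
  have hFt : ∀ r : R', Tendsto (fun φ : T => (φ : R' →ₐ[ℂ] ℂ) r) F (𝓝 (ψ₀ r)) := fun r =>
    ((continuous_apply r).tendsto _).comp Filter.tendsto_comap
  -- the piece of `K` where everything is defined
  let L := Localization.Away δ
  let α : R' →+* S.K := (algebraMap S.R S.K).comp R'.val.toRingHom
  have hαinj : Function.Injective α := (IsFractionRing.injective S.R S.K).comp Subtype.val_injective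
  have hαδ : IsUnit (α δ) := IsUnit.mk0 _ fun h => hδ (hαinj (h.trans (map_zero α).symm))
  let J : L →+* S.K := IsLocalization.Away.lift δ hαδ
  have hJ : ∀ r : R', J (algebraMap R' L r) = α r := IsLocalization.Away.lift_eq δ hαδ
  have hJinj : Function.Injective J := by
    rw [injective_iff_map_eq_zero]
    intro z hz
    obtain ⟨⟨r, ⟨_, n, rfl⟩⟩, hr⟩ := IsLocalization.surj (Submonoid.powers δ) z
    have h1 := congrArg J hr
    rw [map_mul, hz, zero_mul, hJ] at h1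
    have hr0 : r = 0 := hαinj (h1.symm.trans (map_zero α).symm)
    have hu : IsUnit (algebraMap R' L (δ ^ n)) :=
      IsLocalization.map_units L (⟨_, n, rfl⟩ : Submonoid.powers δ)
    simp only [hr0, map_zero] at hr
    exact (hu.mul_left_eq_zero).1 hr
  have hrange : ∀ g, φ₀ g ∈ J.range := by
    intro g
    have hg : g ∈ Algebra.adjoin ℂ (sW : Set Γ(X, W₀)) := hsW ▸ Algebra.mem_top
    induction hg using Algebra.adjoin_induction with
    | mem x hx =>
      have hu : IsUnit (algebraMap R' L ⟨den (φ₀ x), hdenR x hx⟩) := by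
        refine isUnit_of_dvd_unit (map_dvd (algebraMap R' L)
          (Finset.dvd_prod_of_mem (fun g : {g // g ∈ sW} => (⟨den (φ₀ g), hdenR g g.2⟩ : R'))
            (Finset.mem_attach sW ⟨x, hx⟩))) ?_
        exact IsLocalization.Away.algebraMap_isUnit δ
      refine ⟨algebraMap R' L ⟨num (φ₀ x), hnum x hx⟩ * (hu.unit⁻¹ : Lˣ), ?_⟩
      rw [map_mul, hJ, map_units_inv, IsUnit.unit_spec, hJ]
      exact (div_eq_mul_inv _ _).symm.trans (hnd (φ₀ x))
    | algebraMap c =>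
      exact ⟨algebraMap R' L (algebraMap ℂ R' c), by rw [hJ]; exact (hκ c).symm⟩
    | add x y _ _ h1 h2 => rw [map_add]; exact J.range.add_mem h1 h2
    | mul x y _ _ h1 h2 => rw [map_mul]; exact J.range.mul_mem h1 h2
  let eJ := RingEquiv.ofBijective J.rangeRestrict
    ⟨fun a b h => hJinj (congrArg Subtype.val h), RingHom.rangeRestrict_surjective _⟩
  let ω : Γ(X, W₀) →+* L := eJ.symm.toRingHom.comp (φ₀.codRestrict _ hrange)
  have hω : ∀ g, J (ω g) = φ₀ g := fun g =>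
    congrArg Subtype.val (eJ.apply_symm_apply (⟨φ₀ g, hrange g⟩ : J.range))
  let lf : T → L →+* ℂ := fun φ => IsLocalization.Away.lift δ (g := φ.1.toRingHom) (IsUnit.mk0 _ φ.2)
  have hlf : ∀ (φ : T) (r : R'), lf φ (algebraMap R' L r) = φ.1 r := fun φ r =>
    IsLocalization.Away.lift_eq δ (g := φ.1.toRingHom) (IsUnit.mk0 _ φ.2) r
  have hpts : ∀ φ : T, ∃ (x : Pts X) (h : x.pt ∈ W₀), ∀ g, x.ev W₀ h g = lf φ (ω g) := by
    intro φ
    refine exists_pts_of_chart hW₀ ((lf φ).comp ω) fun c => ?_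
    have : ω (strU W₀ c) = algebraMap R' L (algebraMap ℂ R' c) :=
      hJinj (by rw [hω, hJ, hκ]; rfl)
    rw [RingHom.comp_apply, this, hlf]
    exact φ.1.commutes c
  choose u hu hue using hpts
  -- the limit in `Y`
  let χV : Γ(Y, V) →+* ℂ := ψ₀.toRingHom.comp (ψ.codRestrict R' hψR')
  obtain ⟨y, hy, hye⟩ := exists_pts_of_chart hV χV fun c => ψ₀.commutes c
  have hevfu : ∀ᶠ φ in F, (Pts.map f (u φ)).pt ∈ V := .of_forall fun φ => by
    rw [Pts.pt_map]; exact hW₀V (hu φ)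
  have hty : Tendsto (fun φ => Pts.map f (u φ)) F (𝓝 y) := by
    refine tendsto_of_tendsto_ev hV hy hevfu fun b => ?_
    rw [hye]
    refine (hFt ⟨ψ b, hψR' b⟩).congr fun φ => ?_
    have h2 : (Pts.map f (u φ)).pt ∈ V := by rw [Pts.pt_map]; exact hW₀V (hu φ)
    have e1 : (Pts.map f (u φ)).ev V h2 b = (u φ).ev W₀ (hu φ) (f.appLE V W₀ hW₀V b) := by
      rw [Pts.ev_map]
      exact (ev_map_res (u φ) hW₀V (hu φ) (f.app V b)).symm
    rw [evExt_of_mem (fun φ => Pts.map f (u φ)) h2, e1, hue,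
      show ω (f.appLE V W₀ hW₀V b) = algebraMap R' L ⟨ψ b, hψR' b⟩ from hJinj (by
        rw [hω, hJ]; exact DFunLike.congr_fun (hcomm W₀ hW₀ hW₀V φ₀ hφ₀) b), hlf]
  obtain ⟨x, hxy, hxc⟩ := hf.clusterPt_of_mapClusterPt (ℱ := F.map u) (y := y)
    ((show Tendsto (Pts.map f) (F.map u) (𝓝 y) from Filter.tendsto_map'_iff.2 hty).mapClusterPt)
  -- the cluster point lies on the closure of `η`
  have hZ : ∀ φ : T, η ⤳ (u φ).pt := by
    intro φ
    refine specializes_iff_forall_open.2 fun O hO hxO => ?_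
    obtain ⟨b, hbO, hxb⟩ := hW₀.exists_basicOpen_le (V := ⟨O, hO⟩) ⟨(u φ).pt, hxO⟩ (hu φ)
    refine hbO ?_
    have hb : φ₀ b ≠ 0 := by
      intro h0
      refine (pt_mem_basicOpen_iff (u φ) (hu φ) b).1 hxb ?_
      rw [hue, show ω b = 0 from hJinj (by rw [hω, h0, map_zero]), map_zero]
    show η ∈ X.basicOpen b
    have e : η = hW₀.fromSpec (Spec.map (CommRingCat.ofHom φ₀) pt₀) := by
      show S.i₁ pt₀ = _
      rw [← hφ₀, Scheme.Hom.comp_apply]
    rw [e]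
    show Spec.map (CommRingCat.ofHom φ₀) pt₀ ∈ hW₀.fromSpec ⁻¹ᵁ X.basicOpen b
    rw [hW₀.fromSpec_preimage_basicOpen]
    intro hbp
    have h0 : pt₀.asIdeal = ⊥ := (Ideal.eq_bot_or_top _).resolve_right pt₀.isPrime.ne_top
    have : φ₀ b ∈ pt₀.asIdeal := hbp
    rw [h0] at this
    exact hb this
  have hxZ : x.pt ∈ closure ({η} : Set ↥X) := by
    have hclosed : IsClosed (Pts.pt ⁻¹' closure ({η} : Set ↥X) : Set (Pts X)) :=
      isClosed_closure.preimage Pts.continuous_pt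
    show x ∈ Pts.pt ⁻¹' closure ({η} : Set ↥X)
    rw [← hclosed.closure_eq]
    refine mem_closure_iff_clusterPt.2 (hxc.mono ?_)
    exact le_principal_iff.2 (Filter.mem_map.2
      (Filter.Eventually.of_forall fun φ => specializes_iff_mem_closure.1 (hZ φ)))
  have hxV : x.pt ∈ ((f ⁻¹ᵁ V : X.Opens) : Set X) := by
    show f x.pt ∈ V
    rw [← Pts.pt_map, hxy]
    exact hy
  rw [hS] at hxV
  obtain ⟨W, hWS, hxW⟩ := Set.mem_iUnion₂.1 hxV
  let W₁ : S₁ := ⟨W, hWS, (specializes_iff_mem_closure.2 hxZ).mem_open W.1.2 hxW⟩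
  -- the chart function stays bounded near the limit but tends to infinity
  set M : ℝ := ‖x.ev W hxW (bW W₁)‖ + 1
  have hnhds : Pts.basicSet (W : X.Opens) (bW W₁) (Metric.ball 0 M) ∈ 𝓝 x :=
    (Pts.isOpen_basicSet _ _ Metric.isOpen_ball).mem_nhds ⟨hxW, by simp [M]⟩
  have h1 : ∃ᶠ φ in F, u φ ∈ Pts.basicSet (W : X.Opens) (bW W₁) (Metric.ball 0 M) :=
    Filter.frequently_map.1 (hxc.frequently hnhds)
  have h2 : ∀ᶠ φ : T in F, ‖φ.1 ⟨cW W₁, hcR' W₁⟩‖ < 1 / M := by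
    have h0 : ψ₀ ⟨cW W₁, hcR' W₁⟩ = 0 := hψ₀ _ (hcW W₁)
    have := (hFt ⟨cW W₁, hcR' W₁⟩).norm
    rw [h0, norm_zero] at this
    exact this.eventually (gt_mem_nhds (one_div_pos.2 (add_pos_of_nonneg_of_pos (norm_nonneg _) one_pos)))
  obtain ⟨φ, ⟨hW', hball⟩, hc⟩ := (h1.and_eventually h2).exists
  have e : (u φ).ev W hW' (bW W₁) * φ.1 ⟨cW W₁, hcR' W₁⟩ = 1 := by
    rw [show (u φ).ev W hW' (bW W₁) =
      (u φ).ev W₀ (hu φ) (X.presheaf.map (homOfLE (hW₀W W W₁.2)).op (bW W₁)) from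
      (ev_map_res (u φ) (hW₀W W W₁.2) (hu φ) (bW W₁)).symm, hue, ← hlf φ, ← map_mul,
      ← map_one (lf φ)]
    congr 1
    exact hJinj (by rw [map_mul, hω, hJ, map_one]; exact hcW1 W₁)
  have hball' : ‖(u φ).ev W hW' (bW W₁)‖ < M := by simpa using hball
  have := congrArg norm e
  rw [norm_mul, norm_one] at this
  have hM : 0 < M := by positivity
  have : ‖(u φ).ev W hW' (bW W₁)‖ * ‖φ.1 ⟨cW W₁, hcR' W₁⟩‖ < 1 := by
    calc _ ≤ M * ‖φ.1 ⟨cW W₁, hcR' W₁⟩‖ := mul_le_mul_of_nonneg_right hball'.le (norm_nonneg _)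
      _ < M * (1 / M) := mul_lt_mul_of_pos_left hc hM
      _ = 1 := by field_simp
  linarith

end Groth.Agent.Lib.AnPts
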