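import Groth.Agent.Lib.AnPts.RootsLH
import Groth.Agent.Lib.AnPts.ProperConverse
import Mathlib.RingTheory.Unramified.LocalStructure
import Mathlib.AlgebraicGeometry.Morphisms.Etale

/-!
# Étale morphisms are local homeomorphisms on ℂ-points
-/

open AlgebraicGeometry CategoryTheory TopologicalSpace Opposite Topology Filter

noncomputable section

namespace Groth.Agent.Lib.AnPts

open An Polynomial

variable {X Y : Scheme.{0}} [X.Over SC] [Y.Over SC] (g : X ⟶ Y) [g.IsOver SC]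

lemma ev_appLE (x : Pts X) {U : X.Opens} {V : Y.Opens} (e : U ≤ g ⁻¹ᵁ V) (hx : x.pt ∈ U)
    (h : (Pts.map g x).pt ∈ V) (b : Γ(Y, V)) :
    x.ev U hx (g.appLE V U e b) = (Pts.map g x).ev V h b := by
  rw [Pts.ev_map]
  exact ev_map_res x e hx (g.app V b)

lemma eq_of_ev_eq {U : X.Opens} (hU : IsAffineOpen U) {x x' : Pts X} (hx : x.pt ∈ U)
    (hx' : x'.pt ∈ U) (h : ∀ b, x.ev U hx b = x'.ev U hx' b) : x = x' := by
  refine Subtype.ext ?_
  rw [point_eq_fromSpec x hU hx, point_eq_fromSpec x' hU hx']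
  congr 3
  exact RingHom.ext h

lemma exists_standardEtale_nhd [Etale g] (p : X) : ∃ (V : Y.Opens) (U : X.Opens)
    (_ : IsAffineOpen V) (_ : IsAffineOpen U) (e : U ≤ g ⁻¹ᵁ V), p ∈ U ∧
      @Algebra.IsStandardEtale Γ(Y, V) Γ(X, U) _ _ (g.appLE V U e).hom.toAlgebra := by
  obtain ⟨V, hV, hpV, -⟩ :=
    exists_isAffineOpen_mem_and_subset (U := ⊤) (x := g p) (Opens.mem_top _)
  obtain ⟨U₁, hU₁, hpU₁, hU₁V⟩ := exists_isAffineOpen_mem_and_subset (U := g ⁻¹ᵁ V) (x := p) hpV
  let : Algebra Γ(Y, V) Γ(X, U₁) := (g.appLE V U₁ hU₁V).hom.toAlgebra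
  have hEt : Algebra.Etale Γ(Y, V) Γ(X, U₁) := g.etale_appLE hV hU₁ hU₁V
  let q := hU₁.primeIdealOf ⟨p, hpU₁⟩
  have : Algebra.IsEtaleAt Γ(Y, V) q.asIdeal := Algebra.mem_etaleLocus_iff.1
    ((Algebra.etaleLocus_eq_univ_iff_etale (R := Γ(Y, V)) (A := Γ(X, U₁))).2 hEt ▸ Set.mem_univ q)
  obtain ⟨f, hf, hst⟩ := Algebra.IsEtaleAt.exists_isStandardEtale (R := Γ(Y, V)) q.asIdeal
  have hUV : X.basicOpen f ≤ g ⁻¹ᵁ V := (X.basicOpen_le f).trans hU₁V
  have hp : p ∈ X.basicOpen f := by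
    have h1 : hU₁.fromSpec q = p := hU₁.fromSpec_primeIdealOf ⟨p, hpU₁⟩
    have h2 : q ∈ hU₁.fromSpec ⁻¹ᵁ X.basicOpen f := by
      rw [hU₁.fromSpec_preimage_basicOpen]; exact hf
    rw [← h1]; exact h2
  refine ⟨V, X.basicOpen f, hV, hU₁.basicOpen f, hUV, hp, ?_⟩
  let : Algebra Γ(Y, V) Γ(X, X.basicOpen f) := (g.appLE V (X.basicOpen f) hUV).hom.toAlgebra
  have : IsScalarTower Γ(Y, V) Γ(X, U₁) Γ(X, X.basicOpen f) := IsScalarTower.of_algebraMap_eq' (by
    show (g.appLE V (X.basicOpen f) hUV).hom = _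
    rw [← g.appLE_map hU₁V (homOfLE (X.basicOpen_le f)).op]
    rfl)
  have := hU₁.isLocalization_basicOpen f
  exact Algebra.IsStandardEtale.of_equiv
    ((IsLocalization.algEquiv (Submonoid.powers f) (Localization.Away f)
      Γ(X, X.basicOpen f)).restrictScalars Γ(Y, V))

theorem isLocalHomeomorph_map [Etale g] : IsLocalHomeomorph (Pts.map g) := by
  rw [isLocalHomeomorph_iff_isOpenEmbedding_restrict]
  intro x₀
  obtain ⟨V, U, hV, hU, e, hx₀, hst⟩ := exists_standardEtale_nhd g x₀.pt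
  let : Algebra Γ(Y, V) Γ(X, U) := (g.appLE V U e).hom.toAlgebra
  obtain ⟨P⟩ := hst.nonempty_standardEtalePresentation
  let B := {y : Pts Y // y.pt ∈ V}
  let P₁ : B → ℂ[X] := fun y => P.f.map (evHom y.1 V y.2)
  let Q₁ : B → ℂ[X] := fun y => P.g.map (evHom y.1 V y.2)
  have hcont : ∀ b : Γ(Y, V), Continuous fun y : B => y.1.ev V y.2 b := fun b =>
    continuous_def.2 fun A hA => by
      have : (fun y : B => y.1.ev V y.2 b) ⁻¹' A = Subtype.val ⁻¹' Pts.basicSet V b A := by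
        ext y
        exact ⟨fun h => ⟨y.2, h⟩, fun ⟨_, h⟩ => h⟩
      rw [this]
      exact (Pts.isOpen_basicSet _ _ hA).preimage continuous_subtype_val
  have hc1 : ∀ i, Continuous fun y => (P₁ y).coeff i := fun i => by
    simp only [P₁, coeff_map]; exact hcont _
  have hc2 : ∀ i, Continuous fun y => (Q₁ y).coeff i := fun i => by
    simp only [Q₁, coeff_map]; exact hcont _
  have hsimple : ∀ z : RootSpace P₁ Q₁, (derivative (P₁ z.1.1)).eval z.1.2 ≠ 0 := by
    rintro ⟨⟨y, r⟩, hr, hQ⟩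
    obtain ⟨p₁, p₂, k, hk⟩ := P.cond
    have := congrArg (fun q => (q.map (evHom y.1 V y.2)).eval r) hk
    simp only [Polynomial.map_add, Polynomial.map_mul, Polynomial.map_pow, eval_add, eval_mul,
      eval_pow, ← derivative_map] at this
    intro h0
    simp only [P₁] at hr h0
    rw [h0, hr] at this
    simp only [zero_mul, add_zero] at this
    exact pow_ne_zero k hQ this.symm
  have hLH := isLocalHomeomorph_rootSpace P₁ Q₁ P.f.natDegree P.g.natDegree
    (fun y => P.monic_f.map _) (fun y => P.monic_f.natDegree_map _) hc1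
    (fun y => natDegree_map_le) hc2 hsimple
  -- the piece of `X(ℂ)` is the root space
  let A := {x : Pts X // x.pt ∈ U}
  have hmem : ∀ x : A, (Pts.map g x.1).pt ∈ V := fun x => by rw [Pts.pt_map]; exact e x.2
  have hhom : ∀ (x : A) (q : Γ(Y, V)[X]), x.1.ev U x.2 (aeval P.x q) =
      (q.map (evHom (Pts.map g x.1) V (hmem x))).eval (x.1.ev U x.2 P.x) := by
    intro x q
    have hcomp : (evHom x.1 U x.2).comp (algebraMap Γ(Y, V) Γ(X, U)) =
        evHom (Pts.map g x.1) V (hmem x) := RingHom.ext fun b => ev_appLE g x.1 e x.2 (hmem x) b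
    rw [eval_map, ← hcomp, aeval_def, ← evHom_apply, hom_eval₂]
    rfl
  let Φ : A → RootSpace P₁ Q₁ := fun x => ⟨(⟨Pts.map g x.1, hmem x⟩, x.1.ev U x.2 P.x), by
    refine ⟨?_, ?_⟩
    · show (P.f.map _).eval _ = 0
      rw [← hhom, P.hasMap.1]
      exact ev_zero _ _ _
    · show (P.g.map _).eval _ ≠ 0
      rw [← hhom]
      exact (P.hasMap.2.map (evHom x.1 U x.2)).ne_zero⟩
  have hΦc : Continuous Φ := by
    refine Continuous.subtype_mk (Continuous.prodMk (Continuous.subtype_mk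
      ((Pts.continuous_map g).comp continuous_subtype_val) _) ?_) _
    refine continuous_def.2 fun C hC => ?_
    have : (fun x : A => x.1.ev U x.2 P.x) ⁻¹' C = Subtype.val ⁻¹' Pts.basicSet U P.x C := by
      ext x
      exact ⟨fun h => ⟨x.2, h⟩, fun ⟨_, h⟩ => h⟩
    rw [this]
    exact (Pts.isOpen_basicSet _ _ hC).preimage continuous_subtype_val
  have hinv : ∀ z : RootSpace P₁ Q₁, ∃ x : A, Φ x = z := by
    rintro ⟨⟨y, r⟩, hr, hQ⟩
    let : Algebra Γ(Y, V) ℂ := (evHom y.1 V y.2).toAlgebra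
    have hmap : P.P.HasMap r := by
      refine ⟨?_, ?_⟩
      · rw [aeval_def, ← eval_map]; exact hr
      · rw [aeval_def, ← eval_map]; exact IsUnit.mk0 _ hQ
    let χ : Γ(X, U) →ₐ[Γ(Y, V)] ℂ := (P.P.lift r hmap).comp P.equivRing.toAlgHom
    obtain ⟨x, hx, hxe⟩ := exists_pts_of_chart hU χ.toRingHom fun c => by
      rw [← strU_comp g e]
      exact (χ.commutes (strU V c)).trans (ev_strU y.1 V y.2 c)
    refine ⟨⟨x, hx⟩, Subtype.ext (Prod.ext (Subtype.ext ?_) ?_)⟩
    · refine eq_of_ev_eq hV (hmem ⟨x, hx⟩) y.2 fun b => ?_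
      rw [← ev_appLE g x e hx (hmem ⟨x, hx⟩), hxe]
      exact χ.commutes b
    · show x.ev U hx P.x = r
      rw [hxe]
      show P.P.lift r hmap (P.equivRing P.x) = r
      rw [P.equivRing_x, StandardEtalePair.lift_X]
  -- every section is continuous in the root-space coordinates
  have hsec : ∀ s : Γ(X, U), ∃ σ : RootSpace P₁ Q₁ → ℂ, Continuous σ ∧
      ∀ x : A, σ (Φ x) = x.1.ev U x.2 s := by
    intro s
    obtain ⟨p, k, hpk⟩ := P.exists_mul_aeval_x_g_pow_eq_aeval_x s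
    refine ⟨fun z => (p.map (evHom z.1.1.1 V z.1.1.2)).eval z.1.2 / (Q₁ z.1.1).eval z.1.2 ^ k, ?_, ?_⟩
    · refine Continuous.div ?_ (Continuous.pow ?_ k) fun z => pow_ne_zero k z.2.2
      · refine continuous_eval_of_coeff (fun z => natDegree_map_le (p := p)) (fun i => ?_)
          (continuous_snd.comp continuous_subtype_val)
        simp only [coeff_map]
        exact (hcont _).comp (continuous_fst.comp continuous_subtype_val)
      · exact continuous_eval_of_coeff (fun z => natDegree_map_le (p := P.g))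
          (fun i => (hc2 i).comp (continuous_fst.comp continuous_subtype_val))
          (continuous_snd.comp continuous_subtype_val)
    · intro x
      have h1 := congrArg (evHom x.1 U x.2) hpk
      rw [map_mul, map_pow, evHom_apply, evHom_apply, evHom_apply, hhom, hhom] at h1
      show (p.map _).eval _ / (P.g.map _).eval _ ^ k = _
      rw [← h1, mul_div_cancel_right₀ _ (pow_ne_zero k ?_)]
      exact (Φ x).2.2
  have hΦbij : Function.Bijective Φ := by
    refine ⟨fun x x' h => Subtype.ext (eq_of_ev_eq hU x.2 x'.2 fun s => ?_), hinv⟩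
    obtain ⟨σ, -, hσ⟩ := hsec s
    rw [← hσ, ← hσ, h]
  let Φe : A ≃ₜ RootSpace P₁ Q₁ :=
    { toEquiv := Equiv.ofBijective Φ hΦbij
      continuous_toFun := hΦc
      continuous_invFun := by
        let Ψ := (Equiv.ofBijective Φ hΦbij).symm
        refine continuous_iff_continuousAt.2 fun z => tendsto_subtype_rng.2 ?_
        refine tendsto_of_tendsto_ev hU (Ψ z).2 (.of_forall fun w => (Ψ w).2) fun s => ?_
        obtain ⟨σ, hσc, hσ⟩ := hsec s
        have hs : ∀ w, (Ψ w).1.ev U (Ψ w).2 s = σ w := fun w => by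
          rw [← hσ]
          exact congrArg σ ((Equiv.ofBijective Φ hΦbij).apply_symm_apply w)
        show Tendsto (evExt (fun w => (Ψ w).1) U s) (𝓝 z) (𝓝 ((Ψ z).1.ev U (Ψ z).2 s))
        rw [hs z]
        refine (hσc.tendsto z).congr fun w => ?_
        exact ((evExt_of_mem (fun w => (Ψ w).1) (Ψ w).2 s).trans (hs w)).symm }
  have hfin : IsLocalHomeomorph (fun x : A => Pts.map g x.1) := by
    have h1 : IsLocalHomeomorph (Subtype.val : B → Pts Y) :=
      (Pts.isOpen_preimage_pt V).isOpenEmbedding_subtypeVal.isLocalHomeomorph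
    exact (h1.comp hLH).comp Φe.isLocalHomeomorph
  obtain ⟨W, hW, hWe⟩ := isLocalHomeomorph_iff_isOpenEmbedding_restrict.1 hfin ⟨x₀, hx₀⟩
  obtain ⟨W₀, hW₀sub, hW₀, hx⟩ := mem_nhds_iff.1 hW
  have hUo : IsOpen {x : Pts X | x.pt ∈ U} := Pts.isOpen_preimage_pt U
  refine ⟨Subtype.val '' W₀, (hUo.isOpenMap_subtype_val W₀ hW₀).mem_nhds ⟨_, hx, rfl⟩, ?_⟩
  have hWe0 : IsOpenEmbedding fun w : W₀ => Pts.map g w.1.1 :=
    hWe.comp (IsOpenEmbedding.inclusion hW₀sub (hW₀.preimage continuous_subtype_val))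
  let eW : W₀ ≃ₜ (Subtype.val '' W₀ : Set (Pts X)) :=
    hUo.isOpenEmbedding_subtypeVal.isEmbedding.homeomorphImage W₀
  have hcomp : (Subtype.val '' W₀ : Set (Pts X)).domRestrict (Pts.map g) =
      (fun w : W₀ => Pts.map g w.1.1) ∘ eW.symm := by
    funext w
    show Pts.map g w.1 = Pts.map g (eW.symm w).1.1
    congr 1
    exact (congrArg Subtype.val (eW.apply_symm_apply w)).symm
  rw [hcomp]
  exact hWe0.comp eW.symm.isOpenEmbedding

end Groth.Agent.Lib.AnPts
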