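import Groth.Agent.Lib.AnPts.Dense
import Mathlib.AlgebraicGeometry.ValuativeCriterion
import Mathlib.Order.Filter.FilterProduct
import Mathlib.RingTheory.Valuation.ValuationSubring
import Mathlib.Topology.Maps.Proper.UniversallyClosed

/-!
# Universally closed morphisms induce proper maps on ℂ-points

A limit point of an ultrafilter on `X(ℂ)` is produced by the valuative criterion applied to the
field of germs of complex functions along the ultrafilter and its valuation ring of bounded germs,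
whose residue map is the limit.
-/

open AlgebraicGeometry CategoryTheory TopologicalSpace Opposite Topology Filter

noncomputable section

namespace Groth.Agent.Lib.AnPts

open An

/-- A complex point in an affine open is given by its evaluation. -/
lemma point_eq_fromSpec {X : Scheme.{0}} [X.Over SC] (x : Pts X) {U : X.Opens} (hU : IsAffineOpen U)
    (h : x.pt ∈ U) : x.1 = Spec.map (CommRingCat.ofHom (evHom x U h)) ≫ hU.fromSpec := by
  have e : CommRingCat.ofHom (evHom x U h) =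
      x.1.appLE U ⊤ (Pts.top_le_preimage x h) ≫ (Scheme.ΓSpecIso (CommRingCat.of ℂ)).hom := rfl
  rw [e, Spec.map_comp, Category.assoc,
    hU.SpecMap_appLE_fromSpec x.1 (isAffineOpen_top SC), IsAffineOpen.fromSpec_top]
  rw [Scheme.isoSpec_Spec_inv, ← Category.assoc, ← Spec.map_comp, Iso.inv_hom_id, Spec.map_id,
    Category.id_comp]

section germ

variable {T : Type} (𝒰 : Ultrafilter T)

/-- Germs of complex functions along an ultrafilter. -/
abbrev GK : Type := Filter.Germ (𝒰 : Filter T) ℂ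

/-- The valuation ring of bounded germs. -/
def boundedGerms : ValuationSubring (GK 𝒰) where
  carrier := {k | ∃ C : ℝ, k.LiftPred (fun z => ‖z‖ ≤ C)}
  zero_mem' := ⟨0, Filter.Eventually.of_forall fun _ => by simp⟩
  one_mem' := ⟨1, Filter.Eventually.of_forall fun _ => by simp⟩
  add_mem' := by
    rintro a b ⟨C, ha⟩ ⟨D, hb⟩
    induction a using Filter.Germ.inductionOn with | _ a =>
    induction b using Filter.Germ.inductionOn with | _ b =>
    exact ⟨C + D, ha.mp (hb.mono fun t hb ha => (norm_add_le _ _).trans (add_le_add ha hb))⟩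
  mul_mem' := by
    rintro a b ⟨C, ha⟩ ⟨D, hb⟩
    induction a using Filter.Germ.inductionOn with | _ a =>
    induction b using Filter.Germ.inductionOn with | _ b =>
    exact ⟨max C 0 * max D 0, ha.mp (hb.mono fun t hb ha => (norm_mul _ _).le.trans
      (mul_le_mul (ha.trans (le_max_left _ _)) (hb.trans (le_max_left _ _)) (norm_nonneg _)
        (le_max_right _ _)))⟩
  neg_mem' := by
    rintro a ⟨C, ha⟩
    induction a using Filter.Germ.inductionOn with | _ a =>
    exact ⟨C, ha.mono fun t ha => by simpa using ha⟩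
  mem_or_inv_mem' := by
    intro a
    induction a using Filter.Germ.inductionOn with | _ a =>
    rcases 𝒰.eventually_or.1 (Filter.Eventually.of_forall fun t => le_total ‖a t‖ 1) with h | h
    · exact Or.inl ⟨1, h⟩
    · refine Or.inr ⟨1, h.mono fun t ht => ?_⟩
      show ‖(a t)⁻¹‖ ≤ 1
      rw [norm_inv]
      exact inv_le_one_of_one_le₀ ht

lemma mem_boundedGerms {f : T → ℂ} :
    ((f : GK 𝒰) ∈ boundedGerms 𝒰) ↔ ∃ C : ℝ, ∀ᶠ t in (𝒰 : Filter T), ‖f t‖ ≤ C := Iff.rfl

lemma exists_lim (k : boundedGerms 𝒰) :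
    ∃ c : ℂ, (k : GK 𝒰).Tendsto (𝓝 c) := by
  obtain ⟨k, hk⟩ := k
  induction k using Filter.Germ.inductionOn with | _ f =>
  obtain ⟨C, hC⟩ := (mem_boundedGerms 𝒰).1 hk
  obtain ⟨c, -, hc⟩ := (isCompact_closedBall (0 : ℂ) C).ultrafilter_le_nhds (𝒰.map f)
    (by rw [Ultrafilter.coe_map, le_principal_iff]; exact hC.mono fun t ht => by simpa using ht)
  exact ⟨c, hc⟩

/-- The limit of a bounded germ. -/
def stdPart : boundedGerms 𝒰 →+* ℂ where
  toFun k := Classical.choose (exists_lim 𝒰 k)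
  map_one' := by
    have h := Classical.choose_spec (exists_lim 𝒰 1)
    exact tendsto_nhds_unique (f := fun _ : T => (1 : ℂ)) h tendsto_const_nhds
  map_zero' := by
    have h := Classical.choose_spec (exists_lim 𝒰 0)
    exact tendsto_nhds_unique (f := fun _ : T => (0 : ℂ)) h tendsto_const_nhds
  map_add' := by
    rintro ⟨a, ha⟩ ⟨b, hb⟩
    induction a using Filter.Germ.inductionOn with | _ a =>
    induction b using Filter.Germ.inductionOn with | _ b =>
    have h1 := Classical.choose_spec (exists_lim 𝒰 ⟨_, ha⟩)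
    have h2 := Classical.choose_spec (exists_lim 𝒰 ⟨_, hb⟩)
    have h3 := Classical.choose_spec (exists_lim 𝒰 (⟨_, ha⟩ + ⟨_, hb⟩))
    exact tendsto_nhds_unique (f := fun t => a t + b t) h3 (Filter.Tendsto.add h1 h2)
  map_mul' := by
    rintro ⟨a, ha⟩ ⟨b, hb⟩
    induction a using Filter.Germ.inductionOn with | _ a =>
    induction b using Filter.Germ.inductionOn with | _ b =>
    have h1 := Classical.choose_spec (exists_lim 𝒰 ⟨_, ha⟩)
    have h2 := Classical.choose_spec (exists_lim 𝒰 ⟨_, hb⟩)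
    have h3 := Classical.choose_spec (exists_lim 𝒰 (⟨_, ha⟩ * ⟨_, hb⟩))
    exact tendsto_nhds_unique (f := fun t => a t * b t) h3 (Filter.Tendsto.mul h1 h2)

lemma tendsto_stdPart {f : T → ℂ} (hf : (f : GK 𝒰) ∈ boundedGerms 𝒰) :
    Tendsto f (𝒰 : Filter T) (𝓝 (stdPart 𝒰 ⟨_, hf⟩)) :=
  Classical.choose_spec (exists_lim 𝒰 ⟨_, hf⟩)

lemma stdPart_eq {f : T → ℂ} (hf : (f : GK 𝒰) ∈ boundedGerms 𝒰) {c : ℂ}
    (hc : Tendsto f (𝒰 : Filter T) (𝓝 c)) : stdPart 𝒰 ⟨_, hf⟩ = c :=
  tendsto_nhds_unique (tendsto_stdPart 𝒰 hf) hc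

lemma isLocalHom_stdPart : IsLocalHom (stdPart 𝒰) := by
  refine ⟨fun k hk => ?_⟩
  obtain ⟨k, hkm⟩ := k
  induction k using Filter.Germ.inductionOn with | _ f =>
  have ht := tendsto_stdPart 𝒰 hkm
  set c := stdPart 𝒰 ⟨_, hkm⟩
  have hc : c ≠ 0 := hk.ne_zero
  have hev : ∀ᶠ t in (𝒰 : Filter T), f t ≠ 0 := ht.eventually_ne hc
  have hinv : ((fun t => (f t)⁻¹ : T → ℂ) : GK 𝒰) ∈ boundedGerms 𝒰 :=
    (mem_boundedGerms 𝒰).2 ⟨‖c⁻¹‖ + 1, (ht.inv₀ hc).norm.eventually (eventually_le_nhds (lt_add_one _))⟩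
  refine IsUnit.of_mul_eq_one (⟨_, hinv⟩ : boundedGerms 𝒰) (Subtype.ext ?_)
  refine Filter.Germ.coe_eq.2 ?_
  exact hev.mono fun t ht => mul_inv_cancel₀ ht

end germ

section germHom

variable {X : Scheme.{0}} [X.Over SC] {T : Type} (𝒰 : Ultrafilter T) (u : T → Pts X)

/-- The value of a section along the family, extended by zero. -/
def evExt (U : X.Opens) (b : Γ(X, U)) (t : T) : ℂ :=
  by classical exact if h : (u t).pt ∈ U then (u t).ev U h b else 0

lemma evExt_of_mem {U : X.Opens} {t : T} (h : (u t).pt ∈ U) (b : Γ(X, U)) :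
    evExt u U b t = (u t).ev U h b := dif_pos h

/-- The germ of the values of a section along an ultrafilter. -/
def germHom (U : X.Opens) (hev : ∀ᶠ t in (𝒰 : Filter T), (u t).pt ∈ U) : Γ(X, U) →+* GK 𝒰 where
  toFun b := (evExt u U b : T → ℂ)
  map_one' := Filter.Germ.coe_eq.2 (hev.mono fun t h => by simp [evExt_of_mem u h])
  map_zero' := Filter.Germ.coe_eq.2 (hev.mono fun t h => by simp [evExt_of_mem u h])
  map_mul' a b := Filter.Germ.coe_eq.2 (hev.mono fun t h => by simp [evExt_of_mem u h])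
  map_add' a b := Filter.Germ.coe_eq.2 (hev.mono fun t h => by simp [evExt_of_mem u h])

lemma germHom_apply (U : X.Opens) (hev : ∀ᶠ t in (𝒰 : Filter T), (u t).pt ∈ U) (b : Γ(X, U)) :
    germHom 𝒰 u U hev b = (evExt u U b : T → ℂ) := rfl

/-- The generalized point given by the ultrafilter. -/
lemma germHom_fromSpec {U V : X.Opens} (hU : IsAffineOpen U) (hV : IsAffineOpen V) (hVU : V ≤ U)
    (hevU : ∀ᶠ t in (𝒰 : Filter T), (u t).pt ∈ U) (hevV : ∀ᶠ t in (𝒰 : Filter T), (u t).pt ∈ V) :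
    Spec.map (CommRingCat.ofHom (germHom 𝒰 u U hevU)) ≫ hU.fromSpec =
      Spec.map (CommRingCat.ofHom (germHom 𝒰 u V hevV)) ≫ hV.fromSpec := by
  rw [← hU.map_fromSpec hV (homOfLE hVU).op, ← Category.assoc, ← Spec.map_comp]
  congr 2
  ext b
  exact Filter.Germ.coe_eq.2 (hevV.mono fun t h => by
    rw [evExt_of_mem u (hVU h), evExt_of_mem u h]; exact (ev_map_res _ hVU h b).symm)

end germHom

variable {X : Scheme.{0}} [X.Over SC] {Y : Scheme.{0}} [Y.Over SC]

/-- A quasi-compact universally closed morphism induces a proper map on ℂ-points. -/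
theorem isProperMap_map (f : X ⟶ Y) [f.IsOver SC] [UniversallyClosed f] :
    IsProperMap (Pts.map f) := by
  classical
  refine isProperMap_iff_ultrafilter.2 ⟨Pts.continuous_map f, fun 𝒰 y hy => ?_⟩
  obtain ⟨V, hV, hyV, -⟩ :=
    exists_isAffineOpen_mem_and_subset (U := ⊤) (x := y.pt) (Opens.mem_top _)
  -- an affine open of `X` containing almost all points
  have hevV : ∀ᶠ t in (𝒰 : Filter (Pts X)), f t.pt ∈ V := by
    filter_upwards [hy ((Pts.isOpen_preimage_pt V).mem_nhds hyV)] with t ht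
    simpa [Pts.pt_map] using ht
  obtain ⟨S, hSf, hS⟩ := isCompact_and_isOpen_iff_finite_and_eq_biUnion_affineOpens.mp
    (show IsCompact ((f ⁻¹ᵁ V : X.Opens) : Set X) ∧ IsOpen ((f ⁻¹ᵁ V : X.Opens) : Set X) from
      ⟨f.isCompact_preimage hV.isCompact, (f ⁻¹ᵁ V).2⟩)
  obtain ⟨W, hWS, hevW⟩ : ∃ W ∈ S, ∀ᶠ t in (𝒰 : Filter (Pts X)), t.pt ∈ (W : X.Opens) := by
    refine (Ultrafilter.eventually_exists_mem_iff hSf).1 (hevV.mono fun t ht => ?_)
    have : t.pt ∈ ((f ⁻¹ᵁ V : X.Opens) : Set X) := ht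
    rw [hS] at this
    simpa using this
  have hW : IsAffineOpen (W : X.Opens) := W.2
  have hWV : (W : X.Opens) ≤ f ⁻¹ᵁ V := fun z hz => by
    show z ∈ ((f ⁻¹ᵁ V : X.Opens) : Set X)
    rw [hS]
    exact Set.mem_iUnion₂.2 ⟨W, hWS, hz⟩
  -- the square
  let K := GK 𝒰
  let O := boundedGerms 𝒰
  have hψb : ∀ b : Γ(Y, V), ((evExt (fun t => Pts.map f t) V b : Pts X → ℂ) : K) ∈ O ∧
      Tendsto (evExt (fun t => Pts.map f t) V b) 𝒰 (𝓝 (y.ev V hyV b)) := by
    intro b
    have ht : Tendsto (evExt (fun t => Pts.map f t) V b) 𝒰 (𝓝 (y.ev V hyV b)) := by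
      refine tendsto_nhds.2 fun A hA hAy => ?_
      refine Filter.mem_of_superset (hy ((Pts.isOpen_basicSet V b hA).mem_nhds ⟨hyV, hAy⟩)) ?_
      rintro t ⟨h, ht⟩
      show evExt (fun t => Pts.map f t) V b t ∈ A
      rwa [evExt_of_mem (fun t => Pts.map f t) h]
    exact ⟨(mem_boundedGerms 𝒰).2 ⟨‖y.ev V hyV b‖ + 1,
      ht.norm.eventually (eventually_le_nhds (lt_add_one _))⟩, ht⟩
  have hevV' : ∀ᶠ t in (𝒰 : Filter (Pts X)), (Pts.map f t).pt ∈ V :=
    hevV.mono fun t ht => by rwa [Pts.pt_map]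
  let ψ : Γ(Y, V) →+* O :=
    (germHom 𝒰 (fun t => Pts.map f t) V hevV').codRestrict O (fun b => (hψb b).1)
  let i₁ : Spec (CommRingCat.of K) ⟶ X :=
    Spec.map (CommRingCat.ofHom (germHom 𝒰 id W hevW)) ≫ hW.fromSpec
  let i₂ : Spec (CommRingCat.of O) ⟶ Y := Spec.map (CommRingCat.ofHom ψ) ≫ hV.fromSpec
  have hsq : CommSq i₁ (Spec.map (CommRingCat.ofHom (algebraMap O K))) f i₂ := by
    constructor
    simp only [i₁, i₂, Category.assoc]
    rw [← hV.SpecMap_appLE_fromSpec f hW hWV, ← Category.assoc, ← Category.assoc, ← Spec.map_comp,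
      ← Spec.map_comp]
    congr 2
    ext b
    refine Filter.Germ.coe_eq.2 (hevW.mono fun t ht => ?_)
    have h2 : (Pts.map f t).pt ∈ V := by rw [Pts.pt_map]; exact hWV ht
    rw [evExt_of_mem id ht, evExt_of_mem (fun t => Pts.map f t) h2, Pts.ev_map]
    show t.ev W ht (X.presheaf.map (homOfLE hWV).op (f.app V b)) = _
    rw [ev_map_res]
  have hex : ValuativeCriterion.Existence f := by
    have : UniversallyClosed f := inferInstance
    rw [UniversallyClosed.eq_valuativeCriterion] at this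
    exact this.1
  obtain ⟨l⟩ := (hex ⟨O, K, i₁, i₂, hsq⟩).exists_lift
  let x₁ : SC ⟶ X := Spec.map (CommRingCat.ofHom (stdPart 𝒰)) ≫ l.l
  have hx₁ : x₁ ≫ f = y.1 := by
    rw [point_eq_fromSpec y hV hyV]
    simp only [x₁, Category.assoc]
    rw [l.fac_right]
    simp only [i₂]
    rw [← Category.assoc, ← Spec.map_comp]
    congr 2
    ext b
    exact stdPart_eq 𝒰 (hψb b).1 (hψb b).2
  let x : Pts X := ⟨x₁, by rw [← comp_over f, ← Category.assoc, hx₁]; exact y.2⟩
  refine ⟨x, Subtype.ext hx₁, ?_⟩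
  rw [nhds_generateFrom]
  refine le_iInf₂ fun B hB => le_principal_iff.2 ?_
  obtain ⟨hxB, U, b₀, A, hA, rfl⟩ := hB
  obtain ⟨hxU, hxA⟩ := hxB
  obtain ⟨W', hW', hxW', hW'U⟩ := exists_isAffineOpen_mem_and_subset (U := U) (x := x.pt) hxU
  -- the lift factors through `W'`
  have hcl : ∀ p, l.l p ∈ W' := fun p => by
    have h1 : p ⤳ IsLocalRing.closedPoint O := IsLocalRing.specializes_closedPoint p
    refine (h1.map l.l.continuous).mem_open W'.2 ?_
    have := isLocalHom_stdPart 𝒰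
    have e : x.pt = l.l (IsLocalRing.closedPoint O) := by
      show (Spec.map (CommRingCat.ofHom (stdPart 𝒰)) ≫ l.l) An.cpt = _
      rw [Scheme.Hom.comp_apply, cpt_eq_closedPoint]
      congr 1
      exact IsLocalRing.comap_closedPoint (stdPart 𝒰)
    exact e ▸ hxW'
  have hrange : Set.range l.l ⊆ Set.range hW'.fromSpec := by
    rw [hW'.range_fromSpec]
    rintro _ ⟨p, rfl⟩
    exact hcl p
  let θ : Γ(X, W') →+* O :=
    (Spec.preimage (IsOpenImmersion.lift hW'.fromSpec l.l hrange)).hom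
  have hθ : Spec.map (CommRingCat.ofHom θ) ≫ hW'.fromSpec = l.l := by
    simp [θ]
  -- the generic point lies in `W ⊓ W'`
  let pt₀ : ↥(Spec (CommRingCat.of K)) := default
  let q := Spec.map (CommRingCat.ofHom (germHom 𝒰 id W hevW)) pt₀
  have hq : hW.fromSpec q ∈ W' := by
    have h1 : hW.fromSpec q = (Spec.map (CommRingCat.ofHom (algebraMap O K)) ≫ l.l) pt₀ := by
      have h0 : Spec.map (CommRingCat.ofHom (algebraMap O K)) ≫ l.l = i₁ := l.fac_left
      rw [h0]
      exact (Scheme.Hom.comp_apply _ _ _).symm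
    rw [h1, Scheme.Hom.comp_apply]
    exact hcl _
  have hqW : hW.fromSpec q ∈ (W : X.Opens) := by
    have : hW.fromSpec q ∈ Set.range hW.fromSpec := ⟨q, rfl⟩
    rwa [hW.range_fromSpec] at this
  obtain ⟨g, hg, hqg⟩ := hW.exists_basicOpen_le (V := W') ⟨_, hq⟩ hqW
  have hgne : germHom 𝒰 id W hevW g ≠ 0 := by
    intro h0
    have : q ∈ (hW.fromSpec ⁻¹ᵁ X.basicOpen g) := hqg
    rw [hW.fromSpec_preimage_basicOpen] at this
    exact this (show germHom 𝒰 id W hevW g ∈ pt₀.asIdeal by rw [h0]; exact Ideal.zero_mem _)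
  have hevg : ∀ᶠ t in (𝒰 : Filter (Pts X)), t.pt ∈ X.basicOpen g := by
    have : ∀ᶠ t in (𝒰 : Filter (Pts X)), evExt id W g t ≠ 0 := by
      rw [Ultrafilter.eventually_not]
      exact fun h => hgne (Filter.Germ.coe_eq.2 h)
    refine (this.and hevW).mono fun t ht => ?_
    rw [pt_mem_basicOpen_iff t ht.2]
    simpa [evExt_of_mem id ht.2] using ht.1
  have hevW' : ∀ᶠ t in (𝒰 : Filter (Pts X)), t.pt ∈ W' := hevg.mono fun t ht => hg ht
  have hθgerm : (algebraMap O K).comp θ = germHom 𝒰 id W' hevW' := by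
    have e : Spec.map (CommRingCat.ofHom ((algebraMap O K).comp θ)) ≫ hW'.fromSpec =
        Spec.map (CommRingCat.ofHom (germHom 𝒰 id W' hevW')) ≫ hW'.fromSpec := by
      rw [CommRingCat.ofHom_comp, Spec.map_comp, Category.assoc, hθ,
        germHom_fromSpec 𝒰 id hW' (hW.basicOpen g) hg hevW' hevg,
        ← germHom_fromSpec 𝒰 id hW (hW.basicOpen g) (X.basicOpen_le g) hevW hevg]
      exact l.fac_left
    exact congrArg CommRingCat.Hom.hom (Spec.map_injective ((cancel_mono hW'.fromSpec).1 e))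
  let b : Γ(X, W') := X.presheaf.map (homOfLE hW'U).op b₀
  have hxb : stdPart 𝒰 (θ b) = x.ev U hxU b₀ := by
    have e : Spec.map (CommRingCat.ofHom ((stdPart 𝒰).comp θ)) ≫ hW'.fromSpec =
        Spec.map (CommRingCat.ofHom (evHom x W' hxW')) ≫ hW'.fromSpec := by
      rw [CommRingCat.ofHom_comp, Spec.map_comp, Category.assoc, hθ, ← point_eq_fromSpec x hW' hxW']
    have e2 := DFunLike.congr_fun
      (congrArg CommRingCat.Hom.hom (Spec.map_injective ((cancel_mono hW'.fromSpec).1 e))) b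
    exact e2.trans (ev_map_res x hW'U hxW' b₀)
  have hmem : ((evExt id W' b : Pts X → ℂ) : K) ∈ O := by
    rw [show ((evExt id W' b : Pts X → ℂ) : K) = algebraMap O K (θ b) from
      (DFunLike.congr_fun hθgerm b).symm]
    exact (θ b).2
  have hlim : Tendsto (evExt id W' b) 𝒰 (𝓝 (x.ev U hxU b₀)) := by
    rw [← hxb, show θ b = ⟨_, hmem⟩ from Subtype.ext (DFunLike.congr_fun hθgerm b)]
    exact tendsto_stdPart 𝒰 hmem
  refine Filter.mem_of_superset (inter_mem hevW' (hlim (hA.mem_nhds hxA))) ?_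
  rintro t ⟨ht, htA⟩
  refine ⟨hW'U ht, ?_⟩
  have h2 : evExt id W' b t ∈ A := htA
  rw [evExt_of_mem id ht] at h2
  exact (ev_map_res t hW'U ht b₀) ▸ h2

end Groth.Agent.Lib.AnPts
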