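import Groth.Agent.Lib.AnPts.Maps
import Mathlib.AlgebraicGeometry.Morphisms.Separated

/-!
# ℂ-points of fibre products; separatedness
-/

open AlgebraicGeometry CategoryTheory TopologicalSpace Opposite Topology

noncomputable section

namespace Groth.Agent.Lib.AnPts

open An

variable {X Y S : Scheme.{0}} [X.Over SC] [Y.Over SC] [S.Over SC] (f : X ⟶ S) (g : Y ⟶ S)
  [f.IsOver SC] [g.IsOver SC]

/-- The pair of projections of a point of the fibre product. -/
def pbPair (z : Pts (Limits.pullback f g)) :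
    {q : Pts X × Pts Y // Pts.map f q.1 = Pts.map g q.2} :=
  ⟨(Pts.map (Limits.pullback.fst f g) z, Pts.map (Limits.pullback.snd f g) z),
    Pts.map_pullback_condition f g z⟩

lemma pbPair_bijective : Function.Bijective (pbPair f g) := by
  refine ⟨fun z z' h => Subtype.ext (Limits.pullback.hom_ext ?_ ?_), fun q => ?_⟩
  · exact congrArg Subtype.val (congrArg (fun q => q.1.1) h)
  · exact congrArg Subtype.val (congrArg (fun q => q.1.2) h)
  · obtain ⟨⟨a, b⟩, hq⟩ := q
    refine ⟨⟨Limits.pullback.lift a.1 b.1 (congrArg Subtype.val hq), ?_⟩, ?_⟩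
    · show Limits.pullback.lift a.1 b.1 _ ≫ Limits.pullback.fst f g ≫ X ↘ SC = 𝟙 SC
      exact (Limits.pullback.lift_fst_assoc _ _ _ _).trans a.2
    · exact Subtype.ext (Prod.ext (Subtype.ext (Limits.pullback.lift_fst _ _ _))
        (Subtype.ext (Limits.pullback.lift_snd _ _ _)))

lemma continuous_pbPair : Continuous (pbPair f g) :=
  Continuous.subtype_mk ((Pts.continuous_map _).prodMk (Pts.continuous_map _)) _

section affine

variable [IsAffine X] [IsAffine Y] [IsAffine S]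

/-- In the affine case the points of the fibre product carry the product topology. -/
lemma isInducing_pbPair_affine :
    IsInducing (fun z : Pts (Limits.pullback f g) =>
      (Pts.map (Limits.pullback.fst f g) z, Pts.map (Limits.pullback.snd f g) z)) := by
  have : IsAffine (Limits.pullback f g) := inferInstance
  let F := fun z : Pts (Limits.pullback f g) =>
      (Pts.map (Limits.pullback.fst f g) z, Pts.map (Limits.pullback.snd f g) z)
  have hF : Continuous F := (Pts.continuous_map _).prodMk (Pts.continuous_map _)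
  refine ⟨le_antisymm (continuous_iff_le_induced.1 hF) ?_⟩
  conv_rhs => rw [topology_eq_induced_evTop (Limits.pullback f g)]
  let t : TopologicalSpace (Pts (Limits.pullback f g)) := TopologicalSpace.induced F inferInstance
  refine continuous_iff_le_induced.1 (@continuous_pi _ _ _ t _ _ fun h => ?_)
  have hpo := isPushout_appTop_of_isPullback (IsPullback.of_hasPullback f g)
  let : Algebra Γ(S, ⊤) Γ(X, ⊤) := f.appTop.hom.toAlgebra
  let : Algebra Γ(S, ⊤) Γ(Y, ⊤) := g.appTop.hom.toAlgebra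
  let e₀ : CommRingCat.of (TensorProduct Γ(S, ⊤) Γ(Y, ⊤) Γ(X, ⊤)) ≅ Γ(Limits.pullback f g, ⊤) :=
    (CommRingCat.pushoutCoconeIsColimit Γ(S, ⊤) Γ(Y, ⊤) Γ(X, ⊤)).coconePointUniqueUpToIso
      hpo.flip.isColimit
  have hl : ∀ b : Γ(Y, ⊤), e₀.hom (b ⊗ₜ[Γ(S, ⊤)] (1 : Γ(X, ⊤))) = (Limits.pullback.snd f g).appTop b :=
    fun b => DFunLike.congr_fun (congrArg CommRingCat.Hom.hom
      ((CommRingCat.pushoutCoconeIsColimit Γ(S, ⊤) Γ(Y, ⊤) Γ(X, ⊤)).comp_coconePointUniqueUpToIso_hom
        hpo.flip.isColimit Limits.WalkingSpan.left)) b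
  have hr : ∀ a : Γ(X, ⊤), e₀.hom ((1 : Γ(Y, ⊤)) ⊗ₜ[Γ(S, ⊤)] a) = (Limits.pullback.fst f g).appTop a :=
    fun a => DFunLike.congr_fun (congrArg CommRingCat.Hom.hom
      ((CommRingCat.pushoutCoconeIsColimit Γ(S, ⊤) Γ(Y, ⊤) Γ(X, ⊤)).comp_coconePointUniqueUpToIso_hom
        hpo.flip.isColimit Limits.WalkingSpan.right)) a
  obtain ⟨w, hw⟩ := e₀.commRingCatIsoToRingEquiv.surjective h
  subst hw
  induction w using TensorProduct.induction_on with
  | zero => simpa using continuous_const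
  | add x y hx hy =>
    simp only [map_add, ev_add]
    exact hx.add hy
  | tmul b a =>
    have e : e₀.commRingCatIsoToRingEquiv (b ⊗ₜ a) =
        (Limits.pullback.snd f g).appTop b * (Limits.pullback.fst f g).appTop a := by
      rw [show (b ⊗ₜ[Γ(S, ⊤)] a) = (b ⊗ₜ[Γ(S, ⊤)] (1 : Γ(X, ⊤))) * ((1 : Γ(Y, ⊤)) ⊗ₜ a) by simp,
        map_mul]
      exact congrArg₂ (· * ·) (hl b) (hr a)
    have e2 : ∀ z : Pts (Limits.pullback f g),
        z.evTop ((Limits.pullback.snd f g).appTop b * (Limits.pullback.fst f g).appTop a) =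
          (F z).2.evTop b * (F z).1.evTop a := fun z => by
      rw [evTop_map, evTop_map]
      exact ev_mul z ⊤ _ _ _
    simp only [e, e2]
    exact ((continuous_evTop b).comp (continuous_snd.comp continuous_induced_dom)).mul
      ((continuous_evTop a).comp (continuous_fst.comp continuous_induced_dom))

end affine

variable [LocallyOfFiniteType (X ↘ SC)] [LocallyOfFiniteType (Y ↘ SC)]
  [LocallyOfFiniteType (S ↘ SC)]

omit [LocallyOfFiniteType (X ↘ SC)] [LocallyOfFiniteType (Y ↘ SC)] [LocallyOfFiniteType (S ↘ SC)] in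
lemma isInducing_pbMap :
    IsInducing (fun z : Pts (Limits.pullback f g) =>
      (Pts.map (Limits.pullback.fst f g) z, Pts.map (Limits.pullback.snd f g) z)) := by
  refine isInducing_of_local fun z => ?_
  set a := Pts.map (Limits.pullback.fst f g) z
  set b := Pts.map (Limits.pullback.snd f g) z
  have hab : Pts.map f a = Pts.map g b := Pts.map_pullback_condition f g z
  obtain ⟨S₀, hS₀, hxS, -⟩ := exists_isAffineOpen_mem_and_subset (U := ⊤)
    (x := (Pts.map f a).pt) (Opens.mem_top _)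
  obtain ⟨X₀, hX₀, hxX, hXS⟩ := exists_isAffineOpen_mem_and_subset (U := f ⁻¹ᵁ S₀)
    (x := a.pt) (show f a.pt ∈ S₀ by rwa [← Pts.pt_map])
  obtain ⟨Y₀, hY₀, hxY, hYS⟩ := exists_isAffineOpen_mem_and_subset (U := g ⁻¹ᵁ S₀)
    (x := b.pt) (show g b.pt ∈ S₀ by rwa [← Pts.pt_map, ← hab])
  have : IsAffine X₀.toScheme := hX₀
  have : IsAffine Y₀.toScheme := hY₀
  have : IsAffine S₀.toScheme := hS₀
  let f₀ := f.resLE S₀ X₀ hXS
  let g₀ := g.resLE S₀ Y₀ hYS
  have hf₀ : f₀.IsOver SC := ⟨by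
    show f₀ ≫ S₀.ι ≫ S ↘ SC = X₀.ι ≫ X ↘ SC
    rw [← Category.assoc, show f₀ ≫ S₀.ι = X₀.ι ≫ f from Scheme.Hom.resLE_comp_ι _ _, Category.assoc, comp_over f]⟩
  have hg₀ : g₀.IsOver SC := ⟨by
    show g₀ ≫ S₀.ι ≫ S ↘ SC = Y₀.ι ≫ Y ↘ SC
    rw [← Category.assoc, show g₀ ≫ S₀.ι = Y₀.ι ≫ g from Scheme.Hom.resLE_comp_ι _ _, Category.assoc, comp_over g]⟩
  let j : Limits.pullback f₀ g₀ ⟶ Limits.pullback f g :=
    Limits.pullback.map f₀ g₀ f g X₀.ι Y₀.ι S₀.ι
      (Scheme.Hom.resLE_comp_ι _ _) (Scheme.Hom.resLE_comp_ι _ _)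
  have hjo : j.IsOver SC := ⟨by
    show j ≫ Limits.pullback.fst f g ≫ X ↘ SC = Limits.pullback.fst f₀ g₀ ≫ X₀.ι ≫ X ↘ SC
    exact (Limits.pullback.lift_fst_assoc _ _ _ _).trans (Category.assoc _ _ _)⟩
  have hji : IsOpenImmersion j := inferInstance
  have hjf : ∀ w, Pts.map (Limits.pullback.fst f g) (Pts.map j w) =
      Pts.map X₀.ι (Pts.map (Limits.pullback.fst f₀ g₀) w) :=
    fun w => Subtype.ext (by simp only [Pts.map_val, Category.assoc, j, Limits.pullback.map, Limits.pullback.lift_fst])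
  have hjs : ∀ w, Pts.map (Limits.pullback.snd f g) (Pts.map j w) =
      Pts.map Y₀.ι (Pts.map (Limits.pullback.snd f₀ g₀) w) :=
    fun w => Subtype.ext (by simp only [Pts.map_val, Category.assoc, j, Limits.pullback.map, Limits.pullback.lift_snd])
  let N : Set (Pts X × Pts Y) := (Pts.pt ⁻¹' (X₀ : Set ↥X)) ×ˢ (Pts.pt ⁻¹' (Y₀ : Set ↥Y))
  have hr : Set.range (Pts.map j) = (fun z : Pts (Limits.pullback f g) =>
      (Pts.map (Limits.pullback.fst f g) z, Pts.map (Limits.pullback.snd f g) z)) ⁻¹' N := by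
    refine Set.Subset.antisymm ?_ fun w hw => ?_
    · rintro _ ⟨w, rfl⟩
      constructor
      · dsimp only [Set.mem_preimage]
        rw [hjf, Set.mem_preimage, Pts.pt_map]
        exact (Pts.map (Limits.pullback.fst f₀ g₀) w).pt.2
      · dsimp only [Set.mem_preimage]
        rw [hjs, Set.mem_preimage, Pts.pt_map]
        exact (Pts.map (Limits.pullback.snd f₀ g₀) w).pt.2
    · obtain ⟨a', ha'⟩ := exists_map_ι_eq hw.1
      obtain ⟨b', hb'⟩ := exists_map_ι_eq hw.2
      have hc : Pts.map f₀ a' = Pts.map g₀ b' := by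
        refine Subtype.ext ((cancel_mono S₀.ι).1 ?_)
        have e1 : a'.1 ≫ X₀.ι = w.1 ≫ Limits.pullback.fst f g := congrArg Subtype.val ha'
        have e2 : b'.1 ≫ Y₀.ι = w.1 ≫ Limits.pullback.snd f g := congrArg Subtype.val hb'
        rw [Pts.map_val, Pts.map_val, Category.assoc, Category.assoc,
          show f₀ ≫ S₀.ι = X₀.ι ≫ f from Scheme.Hom.resLE_comp_ι _ _,
          show g₀ ≫ S₀.ι = Y₀.ι ≫ g from Scheme.Hom.resLE_comp_ι _ _,
          ← Category.assoc a'.1, ← Category.assoc b'.1, e1, e2, Category.assoc, Category.assoc,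
          Limits.pullback.condition]
      obtain ⟨w', hw'⟩ := (pbPair_bijective f₀ g₀).2 ⟨(a', b'), hc⟩
      have h1 : Pts.map (Limits.pullback.fst f₀ g₀) w' = a' := congrArg (fun q => q.1.1) hw'
      have h2 : Pts.map (Limits.pullback.snd f₀ g₀) w' = b' := congrArg (fun q => q.1.2) hw'
      refine ⟨w', (pbPair_bijective f g).1 (Subtype.ext (Prod.ext ?_ ?_))⟩
      · exact (hjf w').trans (h1 ▸ ha')
      · exact (hjs w').trans (h2 ▸ hb')
  refine ⟨_, inferInstance, Pts.map j, isOpenEmbedding_map j, ?_, ?_, ?_⟩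
  · have h1 := ((isOpenEmbedding_map_ι X₀).isInducing.prodMap
      (isOpenEmbedding_map_ι Y₀).isInducing).comp (isInducing_pbPair_affine f₀ g₀)
    convert h1 using 1
    funext w
    exact Prod.ext (hjf w) (hjs w)
  · rw [hr]
    exact ⟨hxX, hxY⟩
  · rw [hr]
    exact Filter.preimage_mem_comap
      (((Pts.isOpen_preimage_pt X₀).prod (Pts.isOpen_preimage_pt Y₀)).mem_nhds ⟨hxX, hxY⟩)

omit [LocallyOfFiniteType (X ↘ SC)] [LocallyOfFiniteType (Y ↘ SC)] [LocallyOfFiniteType (S ↘ SC)] in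
lemma isHomeomorph_pbPair : IsHomeomorph (pbPair f g) := by
  rw [isHomeomorph_iff_isEmbedding_surjective]
  refine ⟨⟨?_, (pbPair_bijective f g).1⟩, (pbPair_bijective f g).2⟩
  exact IsInducing.of_comp (continuous_pbPair f g) continuous_subtype_val (isInducing_pbMap f g)

end Groth.Agent.Lib.AnPts
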