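import Groth.Agent.Lib.AnPts.Core
import Mathlib.Topology.IsLocalHomeomorph
import Mathlib.Algebra.Ring.GeomSum

/-!
# Simple roots of monic polynomials depend on the parameters as a local homeomorphism
-/

open Topology Filter Polynomial

noncomputable section

namespace Groth.Agent.Lib.AnPts

variable {B : Type} [TopologicalSpace B]

lemma continuous_eval_of_coeff {Z : Type} [TopologicalSpace Z] {P : Z → ℂ[X]} {r : Z → ℂ} {n : ℕ}
    (hn : ∀ z, (P z).natDegree ≤ n) (hP : ∀ i, Continuous fun z => (P z).coeff i)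
    (hr : Continuous r) : Continuous fun z => (P z).eval (r z) := by
  have : (fun z => (P z).eval (r z)) = fun z => ∑ i ∈ Finset.range (n + 1), (P z).coeff i * r z ^ i :=
    funext fun z => eval_eq_sum_range' (Nat.lt_succ_of_le (hn z)) _
  rw [this]
  exact continuous_finsetSum _ fun i _ => (hP i).mul (hr.pow i)

/-- The variety of roots of `P` avoiding the zeros of `Q`. -/
abbrev RootSpace (P Q : B → ℂ[X]) : Type := {z : B × ℂ // (P z.1).eval z.2 = 0 ∧ (Q z.1).eval z.2 ≠ 0}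

variable (P Q : B → ℂ[X]) (n m : ℕ) (hPm : ∀ b, (P b).Monic) (hPn : ∀ b, (P b).natDegree = n)
  (hPc : ∀ i, Continuous fun b => (P b).coeff i) (hQn : ∀ b, (Q b).natDegree ≤ m)
  (hQc : ∀ i, Continuous fun b => (Q b).coeff i)
  (hsimple : ∀ z : RootSpace P Q, (derivative (P z.1.1)).eval z.1.2 ≠ 0)

include hPm hPn hPc hQn hQc

lemma isOpenMap_rootSpace : IsOpenMap (fun z : RootSpace P Q => z.1.1) := by
  refine IsOpenMap.of_nhds_le fun z => ?_
  obtain ⟨⟨b₀, r₀⟩, hz, hzQ⟩ := z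
  have hn : 0 < n := by
    rcases Nat.eq_zero_or_pos n with h | h
    · exfalso
      rw [Polynomial.eq_one_of_monic_natDegree_zero (hPm b₀) (by rw [hPn, h])] at hz
      simp at hz
    · exact h
  intro s hs
  rw [Filter.mem_map, nhds_induced, Filter.mem_comap] at hs
  obtain ⟨W, hW, hWs⟩ := hs
  obtain ⟨N, hN, R, hR, hNR⟩ := mem_nhds_prod_iff.1 hW
  obtain ⟨ε, hε, hball⟩ := Metric.mem_nhds_iff.1 hR
  have hQ : Continuous fun z : B × ℂ => (Q z.1).eval z.2 :=
    continuous_eval_of_coeff (fun z => hQn z.1) (fun i => (hQc i).comp continuous_fst) continuous_snd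
  obtain ⟨N', hN', R', hR', hQ0⟩ := mem_nhds_prod_iff.1
    (hQ.continuousAt.preimage_mem_nhds (isOpen_ne.mem_nhds hzQ))
  obtain ⟨ε', hε', hball'⟩ := Metric.mem_nhds_iff.1 hR'
  have hcont : Continuous fun b => (P b).eval r₀ :=
    continuous_eval_of_coeff (fun b => (hPn b).le) hPc continuous_const
  have hsmall : ∀ᶠ b in 𝓝 b₀, ‖(P b).eval r₀‖ < min ε ε' ^ n := by
    have h0 : Tendsto (fun b => ‖(P b).eval r₀‖) (𝓝 b₀) (𝓝 0) := by
      have := (hcont.tendsto b₀).norm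
      rwa [hz, norm_zero] at this
    exact h0.eventually (gt_mem_nhds (pow_pos (lt_min hε hε') n))
  refine Filter.mem_of_superset (inter_mem (inter_mem hN hN') hsmall) ?_
  rintro b ⟨⟨hbN, hbN'⟩, hb⟩
  obtain ⟨r, hr, hrr⟩ := exists_root_near (hPm b) (by rw [hPn]; exact hn) (lt_min hε hε').le
    (by rw [hPn]; exact hb)
  have hd : dist r r₀ < min ε ε' := by rwa [dist_comm, dist_eq_norm]
  have hQb : (Q b).eval r ≠ 0 :=
    hQ0 (Set.mk_mem_prod hbN' (hball' (Metric.mem_ball.2 (hd.trans_le (min_le_right _ _)))))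
  exact hWs (show (⟨(b, r), hr, hQb⟩ : RootSpace P Q) ∈ Subtype.val ⁻¹' W from
    hNR (Set.mk_mem_prod hbN (hball (Metric.mem_ball.2 (hd.trans_le (min_le_left _ _))))))

include hsimple

lemma isLocalHomeomorph_rootSpace : IsLocalHomeomorph (fun z : RootSpace P Q => z.1.1) := by
  rw [isLocalHomeomorph_iff_isOpenEmbedding_restrict]
  rintro ⟨⟨b₀, r₀⟩, hz⟩
  -- the divided difference
  let D : B × ℂ × ℂ → ℂ := fun w =>
    ∑ i ∈ Finset.range (n + 1), (P w.1).coeff i *
      ∑ j ∈ Finset.range i, w.2.1 ^ j * w.2.2 ^ (i - 1 - j)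
  have hD : Continuous D := continuous_finsetSum _ fun i _ =>
    ((hPc i).comp continuous_fst).mul (continuous_finsetSum _ fun j _ => by fun_prop)
  have hD0 : D (b₀, r₀, r₀) ≠ 0 := by
    have : D (b₀, r₀, r₀) = (derivative (P b₀)).eval r₀ := by
      rw [derivative_eval, sum_over_range' _ (fun i => by simp) (n + 1) (by rw [hPn]; exact Nat.lt_succ_self n)]
      refine Finset.sum_congr rfl fun i _ => ?_
      rw [geom_sum₂_self]
      ring
    rw [this]
    exact hsimple ⟨(b₀, r₀), hz⟩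
  obtain ⟨N, hN, R₂, hR₂, hsub⟩ := mem_nhds_prod_iff.1
    (hD.continuousAt.preimage_mem_nhds (isOpen_ne.mem_nhds hD0))
  obtain ⟨R, hR, R', hR', hsub'⟩ := mem_nhds_prod_iff.1 hR₂
  obtain ⟨N₀, hN₀, hNo, hb⟩ := mem_nhds_iff.1 hN
  obtain ⟨R₀, hR₀, hRo, hr⟩ := mem_nhds_iff.1 (inter_mem hR hR')
  let U : Set (RootSpace P Q) := Subtype.val ⁻¹' (N₀ ×ˢ R₀)
  have hU : IsOpen U := (hNo.prod hRo).preimage continuous_subtype_val
  refine ⟨U, hU.mem_nhds ⟨hb, hr⟩, IsOpenEmbedding.of_continuous_injective_isOpenMap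
    ((continuous_fst.comp continuous_subtype_val).comp continuous_subtype_val) ?_
    ((isOpenMap_rootSpace P Q n m hPm hPn hPc hQn hQc).domRestrict hU)⟩
  rintro ⟨⟨⟨b, r⟩, hrz⟩, hb', hr'⟩ ⟨⟨⟨b', s⟩, hsz⟩, hb'', hs'⟩ (e : b = b')
  subst e
  by_contra hne
  have hrs : r ≠ s := fun e => hne (by subst e; rfl)
  have hDne : D (b, r, s) ≠ 0 :=
    hsub (Set.mk_mem_prod (hN₀ hb') (hsub' (Set.mk_mem_prod (hR₀ hr').1 (hR₀ hs').2)))
  refine hDne ?_
  have : D (b, r, s) * (r - s) = (P b).eval r - (P b).eval s := by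
    rw [eval_eq_sum_range' (n := n + 1) (by rw [hPn]; exact Nat.lt_succ_self n) r,
      eval_eq_sum_range' (n := n + 1) (by rw [hPn]; exact Nat.lt_succ_self n) s,
      ← Finset.sum_sub_distrib, Finset.sum_mul]
    refine Finset.sum_congr rfl fun i _ => ?_
    rw [mul_assoc, geom_sum₂_mul, mul_sub]
  have hr0 : (P b).eval r = 0 := hrz.1
  have hs0 : (P b).eval s = 0 := hsz.1
  rw [hr0, hs0, sub_zero] at this
  exact (mul_eq_zero.1 this).resolve_right (sub_ne_zero.2 hrs)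

end Groth.Agent.Lib.AnPts
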